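/-
Stabilisers of functions and of fibre partitions in `Perm α`, and Hall π-subgroups of groups
`G ∈ {alternatingGroup α, ⊤}`.
-/
import Mathlib
import Cfsg.Prelude.Def_HallClasses
import Cfsg.Agent.Lib.OddConseq.HallExt

set_option autoImplicit false
set_option linter.style.haveILetI false

namespace CfsgLib.SymHall

open Equiv

universe u v

section Fun

variable {α : Type u} {ι : Type v}

theorem ap_inv (g : Perm α) (x : α) : g (g⁻¹ x) = x := g.apply_symm_apply x

theorem inv_ap (g : Perm α) (x : α) : g⁻¹ (g x) = x := g.symm_apply_apply x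

/-- Permutations preserving a function. -/
def fixFun (f : α → ι) : Subgroup (Perm α) where
  carrier := {g | ∀ x, f (g x) = f x}
  one_mem' := fun _ => rfl
  mul_mem' := fun {g h} hg hh x => by rw [Perm.mul_apply, hg, hh]
  inv_mem' := fun {g} hg x => by
    have := hg (g⁻¹ x)
    rw [ap_inv] at this
    exact this.symm

/-- Permutations preserving the partition into fibres of a function. -/
def partFun (f : α → ι) : Subgroup (Perm α) where
  carrier := {g | ∀ x y, f (g x) = f (g y) ↔ f x = f y}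
  one_mem' := fun _ _ => Iff.rfl
  mul_mem' := fun {g h} hg hh x y => by rw [Perm.mul_apply, Perm.mul_apply, hg, hh]
  inv_mem' := fun {g} hg x y => by
    have := hg (g⁻¹ x) (g⁻¹ y)
    rw [ap_inv, ap_inv] at this
    exact this.symm

theorem mem_fixFun {f : α → ι} {g : Perm α} : g ∈ fixFun f ↔ ∀ x, f (g x) = f x := Iff.rfl

theorem mem_partFun {f : α → ι} {g : Perm α} :
    g ∈ partFun f ↔ ∀ x y, f (g x) = f (g y) ↔ f x = f y := Iff.rfl

theorem fixFun_le_partFun (f : α → ι) : fixFun f ≤ partFun f :=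
  fun g hg x y => by rw [hg x, hg y]

theorem conj_mem_fixFun {f : α → ι} {g n : Perm α} (hg : g ∈ partFun f) (hn : n ∈ fixFun f) :
    g * n * g⁻¹ ∈ fixFun f := fun x => by
  have h := (hg (n (g⁻¹ x)) (g⁻¹ x)).2 (hn _)
  rw [ap_inv] at h
  exact h

theorem mem_fixFun_comp {f : α → ι} {g h : Perm α} :
    h ∈ fixFun (fun x => f (g⁻¹ x)) ↔ g⁻¹ * h * g ∈ fixFun f := by
  constructor
  · intro H x
    have := H (g x)
    simpa using this
  · intro H x
    have := H (g⁻¹ x)
    simpa using this

theorem mem_partFun_comp {f : α → ι} {g h : Perm α} :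
    h ∈ partFun (fun x => f (g⁻¹ x)) ↔ g⁻¹ * h * g ∈ partFun f := by
  constructor
  · intro H x y
    have := H (g x) (g y)
    simpa using this
  · intro H x y
    have := H (g⁻¹ x) (g⁻¹ y)
    simpa using this

theorem map_conj_fixFun (f : α → ι) (g : Perm α) :
    (fixFun f).map (MulAut.conj g).toMonoidHom = fixFun (fun x => f (g⁻¹ x)) := by
  ext h
  rw [mem_fixFun_comp, Subgroup.mem_map_equiv, MulAut.conj_symm_apply]

theorem map_conj_partFun (f : α → ι) (g : Perm α) :
    (partFun f).map (MulAut.conj g).toMonoidHom = partFun (fun x => f (g⁻¹ x)) := by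
  ext h
  rw [mem_partFun_comp, Subgroup.mem_map_equiv, MulAut.conj_symm_apply]

theorem swap_mem_fixFun [DecidableEq α] {f : α → ι} {a b : α} (h : f a = f b) :
    swap a b ∈ fixFun f := fun x => by
  rw [swap_apply_def]
  split_ifs with h1 h2
  · rw [h1, h]
  · rw [h2, h]
  · rfl

/-- The permutation induced on the fibres. -/
noncomputable def partHom (f : α → ι) (hf : Function.Surjective f) : partFun f →* Perm ι :=
  have key : ∀ (g : Perm α), g ∈ partFun f → ∀ x,
      f (g (Function.surjInv hf (f x))) = f (g x) :=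
    fun _ hg x => (hg _ _).2 (Function.surjInv_eq hf (f x))
  MonoidHom.mk'
    (fun g =>
      { toFun := fun i => f ((g : Perm α) (Function.surjInv hf i))
        invFun := fun i => f ((g : Perm α)⁻¹ (Function.surjInv hf i))
        left_inv := fun i => by
          show f ((g : Perm α)⁻¹ (Function.surjInv hf (f ((g : Perm α) (Function.surjInv hf i))))) = i
          rw [key _ (inv_mem g.2), inv_ap, Function.surjInv_eq hf]
        right_inv := fun i => by
          show f ((g : Perm α) (Function.surjInv hf (f ((g : Perm α)⁻¹ (Function.surjInv hf i))))) = i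
          rw [key _ g.2, ap_inv, Function.surjInv_eq hf] })
    (fun g h => Equiv.ext fun i => by
      show f (((g * h : partFun f) : Perm α) (Function.surjInv hf i)) =
        f ((g : Perm α) (Function.surjInv hf (f ((h : Perm α) (Function.surjInv hf i)))))
      rw [key _ g.2]
      rfl)

theorem partHom_ker (f : α → ι) (hf : Function.Surjective f) :
    (partHom f hf).ker = (fixFun f).subgroupOf (partFun f) := by
  ext g
  rw [MonoidHom.mem_ker, Subgroup.mem_subgroupOf]
  constructor
  · intro h x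
    have h1 : f ((g : Perm α) (Function.surjInv hf (f x))) = f x := congrArg (fun e : Perm ι => e (f x)) h
    rwa [(g.2 _ _).2 (Function.surjInv_eq hf (f x))] at h1
  · intro h
    ext i
    show f ((g : Perm α) (Function.surjInv hf i)) = i
    rw [h _, Function.surjInv_eq hf]

theorem card_partFun_dvd [Finite α] [Fintype ι] (f : α → ι) (hf : Function.Surjective f) :
    Nat.card (partFun f) ∣ Nat.card (fixFun f) * (Fintype.card ι).factorial := by
  rw [← (partHom f hf).ker.card_mul_index, Subgroup.index_ker, partHom_ker,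
    Nat.card_congr (Subgroup.subgroupOfEquivOfLe (fixFun_le_partFun f)).toEquiv]
  refine Nat.mul_dvd_mul_left _ ?_
  have := (partHom f hf).range.card_subgroup_dvd_card
  classical rwa [Nat.card_eq_fintype_card (α := Perm ι), Fintype.card_perm] at this

theorem card_fixFun [Fintype α] [DecidableEq α] [Fintype ι] [DecidableEq ι] (f : α → ι) :
    Nat.card (fixFun f) = ∏ i, (Nat.card {x // f x = i}).factorial := by
  rw [Nat.card_congr (show (fixFun f) ≃ {g : Perm α // f ∘ g = f} from
    Equiv.subtypeEquivRight fun g => by rw [funext_iff]; rfl), Nat.card_eq_fintype_card,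
    DomMulAct.stabilizer_card]
  exact Finset.prod_congr rfl fun i _ => by rw [Nat.card_eq_fintype_card]

theorem card_eq_sum_fibre [Finite α] [Fintype ι] (f : α → ι) :
    Nat.card α = ∑ i, Nat.card {x // f x = i} := by
  rw [← Nat.card_sigma]
  exact Nat.card_congr (Equiv.sigmaFiberEquiv f).symm

variable [Fintype α] [DecidableEq α]

/-- A function with a fibre of two points is moved to any other one with the same fibre sizes by
an even permutation. -/
theorem exists_even_comp_eq (f f' : α → ι)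
    (hcard : ∀ i, Nat.card {x // f x = i} = Nat.card {x // f' x = i})
    (h2 : ∃ a b, a ≠ b ∧ f a = f b) : ∃ g ∈ alternatingGroup α, ∀ x, f' (g x) = f x := by
  classical
  have e : ∀ i, Nonempty ({x // f x = i} ≃ {x // f' x = i}) := fun i => Finite.card_eq.mp (hcard i)
  let g0 : Perm α := Equiv.ofFiberEquiv fun i => (e i).some
  have hg0 : ∀ x, f' (g0 x) = f x := fun x => Equiv.ofFiberEquiv_map _ x
  rcases Int.units_eq_one_or (Perm.sign g0) with h | h
  · exact ⟨g0, Perm.mem_alternatingGroup.mpr h, hg0⟩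
  · obtain ⟨a, b, hab, hf⟩ := h2
    refine ⟨g0 * swap a b, Perm.mem_alternatingGroup.mpr ?_, fun x => ?_⟩
    · rw [map_mul, h, Perm.sign_swap hab]; rfl
    · rw [Perm.mul_apply, hg0]
      exact (swap_mem_fixFun hf) x

end Fun

section Hall

variable {X : Type u} [Group X]

theorem isPiHallOf_top {π : Set ℕ} {H : Subgroup X} :
    Cfsg.IsPiHallOf π H ⊤ ↔ Cfsg.IsPiHall π H := by
  simp [Cfsg.IsPiHallOf, Cfsg.IsPiHall]

/-- A Hall subgroup of `G` inside a π-subgroup `M` is `M ⊓ G`. -/
theorem hall_eq_inf [Finite X] {π : Set ℕ} {H G M : Subgroup X} (hH : Cfsg.IsPiHallOf π H G)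
    (hM : ∀ p : ℕ, p.Prime → p ∣ Nat.card M → p ∈ π) (hle : H ≤ M) : H = M ⊓ G := by
  refine le_antisymm (le_inf hle hH.1) (Subgroup.relIndex_eq_one.mp ?_)
  by_contra hne
  obtain ⟨p, hp, hd⟩ := Nat.exists_prime_and_dvd hne
  have h1 : p ∣ Nat.card (M ⊓ G : Subgroup X) := hd.trans (Subgroup.relIndex_dvd_card _ _)
  refine hH.2.2 p hp (hM p hp (h1.trans (Subgroup.card_dvd_of_le inf_le_left))) (hd.trans ?_)
  exact Dvd.intro _ (Subgroup.relIndex_mul_relIndex H (M ⊓ G) G (le_inf hle hH.1) inf_le_right)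

/-- The index of an intermediate subgroup is a π'-number. -/
theorem hall_index {π : Set ℕ} {H G L : Subgroup X} (hH : Cfsg.IsPiHallOf π H G) (hHL : H ≤ L)
    (hLG : L ≤ G) : ∀ p : ℕ, p.Prime → p ∈ π → ¬ p ∣ L.relIndex G := fun p hp hπ hd =>
  hH.2.2 p hp hπ (hd.trans (Dvd.intro_left _ (Subgroup.relIndex_mul_relIndex H L G hHL hLG)))

theorem hall_of_le {π : Set ℕ} {H G L : Subgroup X} (hH : Cfsg.IsPiHallOf π H G) (hHL : H ≤ L)
    (hLG : L ≤ G) : Cfsg.IsPiHallOf π H L :=
  ⟨hHL, hH.2.1, fun p hp hπ hd =>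
    hH.2.2 p hp hπ (hd.trans (Dvd.intro _ (Subgroup.relIndex_mul_relIndex H L G hHL hLG)))⟩

/-- A Hall subgroup of `L` meets a normal subgroup of `L` in a Hall subgroup. -/
theorem hall_inf_normal [Finite X] {π : Set ℕ} {H L N : Subgroup X}
    (hH : Cfsg.IsPiHallOf π H L) (hN : N ≤ L) (hnor : ∀ g ∈ L, ∀ n ∈ N, g * n * g⁻¹ ∈ N) :
    Cfsg.IsPiHallOf π (H ⊓ N) N := by
  haveI : (N.subgroupOf L).Normal := ⟨fun n hn g => hnor g g.2 n hn⟩
  have hHall : Cfsg.IsPiHall π (H.subgroupOf L) := ⟨fun p hp hd => hH.2.1 p hp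
    (by rwa [Nat.card_congr (Subgroup.subgroupOfEquivOfLe hH.1).toEquiv] at hd), hH.2.2⟩
  have h := OddConseq.piHall_inf_normal hHall (N.subgroupOf L)
  refine ⟨inf_le_right, fun p hp hd => hH.2.1 p hp (hd.trans (Subgroup.card_dvd_of_le inf_le_left)),
    fun p hp hπ hd => h.2 p hp hπ ?_⟩
  show p ∣ (H.subgroupOf L ⊓ N.subgroupOf L).relIndex (N.subgroupOf L)
  rw [Subgroup.inf_relIndex_right, Subgroup.relIndex_subgroupOf hN]
  rwa [Subgroup.inf_relIndex_right] at hd

/-- Homomorphic image of a Hall subgroup. -/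
theorem hall_map {Y : Type v} [Group Y] {π : Set ℕ} {H L : Subgroup X}
    (hH : Cfsg.IsPiHallOf π H L) (φ : L →* Y) :
    Cfsg.IsPiHallOf π ((H.subgroupOf L).map φ) φ.range := by
  refine ⟨Subgroup.map_le_range φ _, fun p hp hd => hH.2.1 p hp ?_, fun p hp hπ hd => hH.2.2 p hp hπ ?_⟩
  · have h1 := hd.trans (Subgroup.card_map_dvd (H.subgroupOf L) φ)
    rwa [Nat.card_congr (Subgroup.subgroupOfEquivOfLe hH.1).toEquiv] at h1
  · refine hd.trans ?_
    have h1 := Subgroup.index_map_dvd (H.subgroupOf L) φ.rangeRestrict_surjective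
    have h2 : ((H.subgroupOf L).map φ).subgroupOf φ.range =
        (H.subgroupOf L).map φ.rangeRestrict := by
      ext ⟨y, hy⟩
      simp only [Subgroup.mem_subgroupOf, Subgroup.mem_map, Subtype.ext_iff,
        MonoidHom.coe_rangeRestrict]
    show (((H.subgroupOf L).map φ).subgroupOf φ.range).index ∣ _
    rw [h2]
    exact h1

/-- A Hall subgroup contains a conjugate of every `p`-subgroup, `p ∈ π`. -/
theorem exists_conj_mem [Finite X] {π : Set ℕ} {H G P : Subgroup X} (hH : Cfsg.IsPiHallOf π H G)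
    {p : ℕ} (hp : p.Prime) (hpπ : p ∈ π) (hP : IsPGroup p P) (hPG : P ≤ G) :
    ∃ g ∈ G, ∀ x ∈ P, g * x * g⁻¹ ∈ H := by
  haveI := Fact.mk hp
  obtain ⟨Q⟩ : Nonempty (Sylow p H) := inferInstance
  have hQG : (Q : Subgroup H).map H.subtype ≤ G := (Subgroup.map_subtype_le _).trans hH.1
  have hcard : Nat.card (((Q : Subgroup H).map H.subtype).subgroupOf G) =
      p ^ (Nat.card G).factorization p := by
    rw [Nat.card_congr (Subgroup.subgroupOfEquivOfLe hQG).toEquiv,
      Subgroup.card_map_of_injective H.subtype_injective, Q.card_eq_multiplicity]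
    have h1 : Nat.card G = Nat.card H * H.relIndex G := by
      rw [← (H.subgroupOf G).card_mul_index,
        Nat.card_congr (Subgroup.subgroupOfEquivOfLe hH.1).toEquiv]
      rfl
    congr 1
    rw [h1, Nat.factorization_mul Nat.card_pos.ne'
        (show H.relIndex G ≠ 0 from Subgroup.index_ne_zero_of_finite),
      Finsupp.add_apply, Nat.factorization_eq_zero_of_not_dvd (hH.2.2 p hp hpπ), add_zero]
  obtain ⟨R, hPR⟩ := (hP.comap_of_injective G.subtype G.subtype_injective).exists_le_sylow
  let S : Sylow p G := Sylow.ofCard _ hcard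
  obtain ⟨g, hg⟩ := MulAction.exists_smul_eq G R S
  refine ⟨g, g.2, fun x hx => ?_⟩
  have h1 : g * ⟨x, hPG hx⟩ * g⁻¹ ∈ (g • R : Sylow p G) := by
    rw [← SetLike.mem_coe, Sylow.coe_smul]
    exact ⟨⟨x, hPG hx⟩, hPR (Subgroup.mem_comap.mpr hx), rfl⟩
  rw [hg] at h1
  obtain ⟨y, -, hy⟩ := (Subgroup.mem_subgroupOf.mp h1 : _ ∈ (Q : Subgroup H).map H.subtype)
  have h2 : (g : X) * x * (g : X)⁻¹ = y := by rw [← Subgroup.coe_subtype H, hy]; rfl
  rw [h2]
  exact y.2

end Hall

section Alt

variable {α : Type u} [Fintype α] [DecidableEq α]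

theorem eq_or_eq_top {G : Subgroup (Perm α)} (hA : alternatingGroup α ≤ G) :
    G = alternatingGroup α ∨ G = ⊤ := by
  by_cases h : G ≤ alternatingGroup α
  · exact Or.inl (le_antisymm h hA)
  · refine Or.inr (eq_top_iff.mpr fun x _ => ?_)
    obtain ⟨o, hoG, ho⟩ := SetLike.not_le_iff_exists.mp h
    have ho1 : Perm.sign o = -1 := (Int.units_eq_one_or _).resolve_left fun h1 =>
      ho (Perm.mem_alternatingGroup.mpr h1)
    rcases Int.units_eq_one_or (Perm.sign x) with hx | hx
    · exact hA (Perm.mem_alternatingGroup.mpr hx)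
    · have h1 : x * o⁻¹ ∈ G := hA (Perm.mem_alternatingGroup.mpr (by
        rw [map_mul, map_inv, hx, ho1]; rfl))
      simpa using mul_mem h1 hoG

theorem normal_of_eq {G : Subgroup (Perm α)} (hA : alternatingGroup α ≤ G) : G.Normal := by
  rcases eq_or_eq_top hA with rfl | rfl <;> infer_instance

theorem relIndex_inf_of_odd {G K : Subgroup (Perm α)} (hA : alternatingGroup α ≤ G)
    (hK : ∃ k ∈ K, Perm.sign k = -1) : (G ⊓ K).relIndex G = K.index := by
  obtain ⟨k, hk, hk1⟩ := hK
  haveI := normal_of_eq hA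
  have hsup : K ⊔ G = ⊤ := (eq_or_eq_top (le_trans hA le_sup_right)).resolve_left fun h => by
    have h0 : k ∈ alternatingGroup α := h ▸ Subgroup.mem_sup_left hk
    rw [Perm.mem_alternatingGroup, hk1] at h0
    exact absurd h0 (by decide)
  have h1 : G.index = G.relIndex K := by
    rw [← Subgroup.relIndex_sup_right (K := G) (H := K), hsup, Subgroup.relIndex_top_right]
  rw [Subgroup.inf_relIndex_left]
  have h2 := Subgroup.relIndex_mul_index (inf_le_left : G ⊓ K ≤ G)
  have h3 := Subgroup.relIndex_mul_index (inf_le_right : G ⊓ K ≤ K)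
  rw [Subgroup.inf_relIndex_left] at h2
  rw [Subgroup.inf_relIndex_right, ← h2, ← h1, mul_comm] at h3
  exact (Nat.eq_of_mul_eq_mul_right (Nat.pos_of_ne_zero Subgroup.index_ne_zero_of_finite) h3).symm

/-- The homomorphism to the symmetric group of one fibre. -/
def fibreHom {ι : Type v} (f : α → ι) (i : ι) : fixFun f →* Perm {x // f x = i} where
  toFun g := (g : Perm α).subtypePerm fun x => by rw [g.2 x]
  map_one' := rfl
  map_mul' _ _ := rfl

theorem fibreHom_range {ι : Type v} [DecidableEq ι] (f : α → ι) (i : ι) {G : Subgroup (Perm α)}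
    (hA : alternatingGroup α ≤ G) :
    alternatingGroup {x // f x = i} ≤
      ((fibreHom f i).comp (Subgroup.inclusion (inf_le_right : G ⊓ fixFun f ≤ fixFun f))).range := by
  intro g hg
  have hK : Perm.ofSubtype g ∈ fixFun f := fun x => by
    by_cases hx : f x = i
    · rw [Perm.ofSubtype_apply_of_mem g hx, hx]
      exact (g ⟨x, hx⟩).2
    · rw [Perm.ofSubtype_apply_of_not_mem g hx]
  refine ⟨⟨Perm.ofSubtype g, hA (Perm.mem_alternatingGroup.mpr ?_), hK⟩, ?_⟩
  · rw [Perm.sign_ofSubtype]; exact Perm.mem_alternatingGroup.mp hg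
  · ext x
    show Perm.ofSubtype g (x : α) = _
    rw [Perm.ofSubtype_apply_coe]

end Alt

end CfsgLib.SymHall
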