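/-
Binomial coefficients `C(k + j, j)`, `2 ≤ j ≤ k`, without a prime divisor `≤ k`: only `C(7, 3)`.
-/
import Mathlib

set_option autoImplicit false

namespace CfsgLib.SymHall

/-- A composite number has only prime divisors up to its half. -/
theorem two_mul_le_of_prime_dvd {p m : ℕ} (hp : p.Prime) (hd : p ∣ m) (hm : ¬ m.Prime)
    (h0 : 0 < m) : 2 * p ≤ m := by
  obtain ⟨c, rfl⟩ := hd
  rcases Nat.lt_or_ge c 2 with hc | hc
  · interval_cases c
    · omega
    · exact absurd (by simpa using hp) hm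
  · calc 2 * p = p * 2 := by ring
      _ ≤ p * c := Nat.mul_le_mul_left p hc

/-- If `2 ≤ j ≤ k` and no prime `≤ k` divides `C(k + j, j)`, then `(j, k) = (3, 4)`. -/
theorem choose_no_small_prime {j k : ℕ} (hj : 2 ≤ j) (hjk : j ≤ k)
    (h : ∀ p : ℕ, p.Prime → p ≤ k → ¬ p ∣ (k + j).choose j) : j = 3 ∧ k = 4 := by
  set C := (k + j).choose j with hC
  have cop : ∀ N B A : ℕ, (∀ p : ℕ, p.Prime → p ∣ N → p ≤ k) → A * N = C * B → N ∣ B :=
    fun N B A hN he => (Nat.coprime_of_dvd fun p hp hpN hpC => h p hp (hN p hp hpN) hpC)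
      |>.dvd_of_dvd_mul_left ⟨A, by rw [← he, mul_comm]⟩
  obtain ⟨i, rfl⟩ : ∃ i, j = i + 2 := ⟨j - 2, by omega⟩
  -- first row below
  have e1 : (k + i + 2) * (k + i + 1).choose (i + 1) = C * (i + 2) := by
    rw [hC, show k + (i + 2) = k + i + 1 + 1 by ring]
    exact Nat.add_one_mul_choose_eq (k + i + 1) (i + 1)
  have hn : (k + i + 2).Prime := by
    by_contra hnp
    have := Nat.le_of_dvd (by omega) (cop (k + i + 2) (i + 2) _ (fun p hp hd => by
      have := two_mul_le_of_prime_dvd hp hd hnp (by omega); omega) (by rw [mul_comm]; exact e1))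
    omega
  have hodd : ¬ 2 ∣ k + i + 2 := fun hd => by
    have := (Nat.prime_dvd_prime_iff_eq Nat.prime_two hn).mp hd; omega
  have hlt : i + 2 < k := by
    rcases Nat.lt_or_ge (i + 2) k with h' | h'
    · exact h'
    · exact absurd ⟨i + 2, by omega⟩ hodd
  -- the row above
  have e2 : (k + i + 3).choose (i + 2) * (k + 1) = C * (k + i + 3) := by
    have := Nat.choose_mul_succ_eq (k + i + 2) (i + 2)
    rw [show k + i + 2 + 1 - (i + 2) = k + 1 by omega] at this
    rw [hC, show k + (i + 2) = k + i + 2 by ring, this]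
  have hk1 : (k + 1).Prime := by
    by_contra hnp
    have hd : k + 1 ∣ k + i + 3 := cop _ _ _ (fun p hp hd => by
      have := two_mul_le_of_prime_dvd hp hd hnp (by omega); omega) e2
    have h1 : k + 1 ∣ i + 2 := by
      rwa [show k + i + 3 = (k + 1) + (i + 2) by ring, Nat.dvd_add_right (dvd_refl _)] at hd
    have := Nat.le_of_dvd (by omega) h1
    omega
  have heven : 2 ∣ k := by
    rcases hk1.eq_two_or_odd with h2 | h2 <;> omega
  have hd1 : i + 3 ∣ k := by
    have e3 := Nat.add_one_mul_choose_eq (k + i + 2) (i + 2)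
    have hd : i + 3 ∣ k + i + 3 := cop _ _ ((k + i + 2 + 1).choose (i + 2 + 1))
      (fun p hp hd => le_trans (Nat.le_of_dvd (by omega) hd) (by omega))
      (by rw [hC, show k + (i + 2) = k + i + 2 by ring]; linarith [e3])
    rw [show k + i + 3 = k + (i + 3) by ring] at hd
    exact (Nat.dvd_add_left (dvd_refl _)).mp hd
  -- `n - 1` and `k + 2` both divide `j (j - 1)`
  have hM : k + i + 1 ∣ (i + 2) * (i + 1) := by
    refine cop _ _ ((k + i + 2) * (k + i).choose i) (fun p hp hd => ?_) ?_
    · rcases Nat.lt_or_ge k p with h' | h'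
      · have := two_mul_le_of_prime_dvd hp hd (fun hpr => by
          rcases hpr.eq_two_or_odd with h2 | h2 <;> omega) (by omega)
        omega
      · exact h'
    · have e4 := Nat.add_one_mul_choose_eq (k + i) i
      calc (k + i + 2) * (k + i).choose i * (k + i + 1)
          = (k + i + 2) * ((k + i + 1) * (k + i).choose i) := by ring
        _ = (k + i + 2) * ((k + i + 1).choose (i + 1) * (i + 1)) := by rw [e4]
        _ = ((k + i + 2) * (k + i + 1).choose (i + 1)) * (i + 1) := by ring
        _ = C * ((i + 2) * (i + 1)) := by rw [e1]; ring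
  have hL : k + 2 ∣ (i + 2) * (i + 1) := by
    have hd : k + 2 ∣ (k + i + 4) * (k + i + 3) := by
      refine cop _ _ ((k + i + 4).choose (i + 2) * (k + 1)) (fun p hp hd => ?_) ?_
      · have := two_mul_le_of_prime_dvd hp hd (fun hpr => by
          rcases hpr.eq_two_or_odd with h2 | h2 <;> omega) (by omega)
        omega
      · have e5 := Nat.choose_mul_succ_eq (k + i + 3) (i + 2)
        rw [show k + i + 3 + 1 - (i + 2) = k + 2 by omega] at e5
        calc (k + i + 4).choose (i + 2) * (k + 1) * (k + 2)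
            = ((k + i + 3 + 1).choose (i + 2) * (k + 2)) * (k + 1) := by ring
          _ = ((k + i + 3).choose (i + 2) * (k + i + 3 + 1)) * (k + 1) := by rw [e5]
          _ = ((k + i + 3).choose (i + 2) * (k + 1)) * (k + i + 4) := by ring
          _ = C * ((k + i + 4) * (k + i + 3)) := by rw [e2]; ring
    rwa [show (k + i + 4) * (k + i + 3) = (k + 2) * (k + 2 + (i + 2) + (i + 1)) + (i + 2) * (i + 1)
      by ring, Nat.dvd_add_right (Dvd.intro _ rfl)] at hd
  obtain ⟨l, rfl⟩ : ∃ l, i = l + 1 := ⟨i - 1, by omega⟩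
  set M := k + (l + 1) + 1 with hMdef
  set g := Nat.gcd M (k + 2) with hg
  have hgl : g ∣ l := by
    have h1 : g ∣ M := Nat.gcd_dvd_left _ _
    rw [show M = (k + 2) + l by omega, Nat.dvd_add_right (Nat.gcd_dvd_right _ _)] at h1
    exact h1
  have hg6 : g ∣ 6 := by
    have h1 : g ∣ (l + 1 + 2) * (l + 1 + 1) := (Nat.gcd_dvd_left _ _).trans hM
    rw [show (l + 1 + 2) * (l + 1 + 1) = l * (l + 5) + 6 by ring,
      Nat.dvd_add_right (hgl.mul_right _)] at h1
    exact h1
  have hbound : M * (k + 2) ≤ 6 * ((l + 1 + 2) * (l + 1 + 1)) := by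
    rw [← Nat.gcd_mul_lcm M (k + 2)]
    exact Nat.mul_le_mul (Nat.le_of_dvd (by omega) hg6)
      (Nat.le_of_dvd (by positivity) (Nat.lcm_dvd hM hL))
  obtain ⟨c, hc⟩ := hd1
  rcases Nat.lt_or_ge c 2 with hc2 | hc2
  · interval_cases c
    · omega
    have hk : k = l + 4 := by omega
    subst hk
    have h12 : l + 6 ∣ 12 := by
      have h1 : l + 6 ∣ (l + 1 + 2) * (l + 1 + 1) + 4 * (l + 6) :=
        dvd_add hL (dvd_mul_left _ _)
      rwa [show (l + 1 + 2) * (l + 1 + 1) + 4 * (l + 6) = (l + 6) * (l + 3) + 12 by ring,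
        Nat.dvd_add_right (Dvd.intro _ rfl)] at h1
    have hl : l ≤ 6 := by have := Nat.le_of_dvd (by norm_num) h12; omega
    interval_cases l
    · exact ⟨rfl, rfl⟩
    all_goals first
      | omega
      | exact absurd (show 2 ∣ C by rw [hC]; decide) (h 2 Nat.prime_two (by omega))
  · exfalso
    have hk : 2 * (l + 4) ≤ k := by
      rw [hc, show l + 1 + 3 = l + 4 by ring, mul_comm 2]
      exact Nat.mul_le_mul_left _ hc2
    nlinarith

end CfsgLib.SymHall
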