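/-
A Hall π-subgroup of `Alt α` or `Sym α` is primitive only if all primes up to `|α|` lie in π.
-/
import Cfsg.Agent.Lib.SymHall.Basic
import Cfsg.Agent.Lib.Perm.JordanPrime

set_option autoImplicit false
set_option linter.style.haveILetI false

namespace CfsgLib.SymHall

open Equiv
open scoped Pointwise

universe u

variable {α : Type u} [Fintype α] [DecidableEq α]

theorem swap_comm_swap {a b c d : α} (hac : a ≠ c) (had : a ≠ d) (hbc : b ≠ c) (hbd : b ≠ d) :
    Commute (swap a b) (swap c d) := by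
  ext x
  simp only [Perm.mul_apply, swap_apply_def]
  grind

theorem sign_swap_mul_swap {a b c d : α} (hab : a ≠ b) (hcd : c ≠ d) :
    Perm.sign (swap a b * swap c d) = 1 := by
  rw [map_mul, Perm.sign_swap hab, Perm.sign_swap hcd]; rfl

theorem conj_swap (h : Perm α) (a b : α) : h * swap a b * h⁻¹ = swap (h a) (h b) :=
  (Equiv.swap_apply_apply h a b).symm

/-- All twelve double transpositions on `Q` lie in `H`. -/
def IsQuad (H : Subgroup (Perm α)) (Q : Finset α) : Prop :=
  Q.card = 4 ∧ ∀ a ∈ Q, ∀ b ∈ Q, ∀ c ∈ Q, ∀ d ∈ Q, a ≠ b → a ≠ c → a ≠ d → b ≠ c → b ≠ d → c ≠ d →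
    swap a b * swap c d ∈ H

theorem isQuad_map {H : Subgroup (Perm α)} {Q : Finset α} (hQ : IsQuad H Q) {h : Perm α}
    (hh : h ∈ H) : IsQuad H (Q.map h.toEmbedding) := by
  refine ⟨by rw [Finset.card_map, hQ.1], ?_⟩
  simp only [Finset.mem_map, Equiv.coe_toEmbedding, forall_exists_index, and_imp]
  intro _ a ha rfl _ b hb rfl _ c hc rfl _ d hd rfl h1 h2 h3 h4 h5 h6
  have := mul_mem (mul_mem hh (hQ.2 a ha b hb c hc d hd (mt (congrArg h) h1) (mt (congrArg h) h2)
    (mt (congrArg h) h3) (mt (congrArg h) h4) (mt (congrArg h) h5) (mt (congrArg h) h6))) (inv_mem hh)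
  have e : h * (swap a b * swap c d) * h⁻¹ = (h * swap a b * h⁻¹) * (h * swap c d * h⁻¹) := by group
  rwa [e, conj_swap, conj_swap] at this

/-- The Klein four-group on four letters. -/
def klein : Subgroup (Perm (Fin 4)) where
  carrier := {g | g = 1 ∨ g = swap 0 1 * swap 2 3 ∨ g = swap 0 2 * swap 1 3 ∨ g = swap 0 3 * swap 1 2}
  one_mem' := Or.inl rfl
  mul_mem' := by
    rintro a b (rfl | rfl | rfl | rfl) (rfl | rfl | rfl | rfl) <;>
      simp only [Set.mem_ofPred_eq] <;> decide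
  inv_mem' := by
    rintro a (rfl | rfl | rfl | rfl) <;> simp only [Set.mem_ofPred_eq] <;> decide

theorem mem_klein {i j k l : Fin 4} (h1 : i ≠ j) (h2 : i ≠ k) (h3 : i ≠ l) (h4 : j ≠ k) (h5 : j ≠ l)
    (h6 : k ≠ l) : swap i j * swap k l ∈ klein := by
  show _ = (1 : Perm (Fin 4)) ∨ _ = _ ∨ _ = _ ∨ _ = _
  revert i j k l
  decide

theorem klein_two (g : Perm (Fin 4)) (hg : g ∈ klein) : g * g = 1 ∧ Perm.sign g = 1 := by
  rcases hg with rfl | rfl | rfl | rfl <;> decide

theorem viaEmbedding_swap (e : Fin 4 ↪ α) (i j : Fin 4) :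
    Perm.viaEmbeddingHom e (swap i j) = swap (e i) (e j) := by
  ext x
  rw [Perm.viaEmbeddingHom_apply]
  by_cases hx : x ∈ Set.range e
  · obtain ⟨m, rfl⟩ := hx
    rw [Perm.viaEmbedding_apply, e.injective.map_swap]
  · rw [Perm.viaEmbedding_apply_of_notMem _ e x hx, swap_apply_of_ne_of_ne]
    · exact fun h => hx ⟨i, h.symm⟩
    · exact fun h => hx ⟨j, h.symm⟩

theorem sign_viaEmbedding (e : Fin 4 ↪ α) (g : Perm (Fin 4)) :
    Perm.sign (Perm.viaEmbeddingHom e g) = Perm.sign g := by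
  classical
  have : Perm.sign.comp (Perm.viaEmbeddingHom e) = Perm.sign (α := Fin 4) :=
    Perm.sign.comp (Perm.viaEmbeddingHom e) |> fun s => by
      refine MonoidHom.ext fun σ => ?_
      induction σ using Equiv.Perm.swap_induction_on with
      | one => simp
      | swap_mul f x y hxy ih =>
        simp only [MonoidHom.comp_apply, map_mul] at ih ⊢
        rw [ih, viaEmbedding_swap, Perm.sign_swap hxy, Perm.sign_swap (e.injective.ne hxy)]
  exact DFunLike.congr_fun this g

/-- With `2 ∈ π` a Hall subgroup has a quad. -/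
theorem exists_quad {π : Set ℕ} {H G : Subgroup (Perm α)} (hA : alternatingGroup α ≤ G)
    (hH : Cfsg.IsPiHallOf π H G) (h2 : 2 ∈ π) (hn : 4 ≤ Fintype.card α) :
    ∃ Q : Finset α, IsQuad H Q := by
  obtain ⟨e⟩ : Nonempty (Fin 4 ↪ α) := Function.Embedding.nonempty_of_card_le (by simpa using hn)
  set P := klein.map (Perm.viaEmbeddingHom e)
  have hP : IsPGroup 2 P := by
    rintro ⟨_, g, hg, rfl⟩
    exact ⟨1, Subtype.ext (by
      show Perm.viaEmbeddingHom e g ^ 2 ^ 1 = 1
      rw [pow_one, sq, ← map_mul, (klein_two g hg).1, map_one])⟩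
  have hPG : P ≤ G := by
    rintro _ ⟨g, hg, rfl⟩
    exact hA (Perm.mem_alternatingGroup.mpr (by rw [sign_viaEmbedding]; exact (klein_two g hg).2))
  obtain ⟨g, -, hgP⟩ := exists_conj_mem hH Nat.prime_two h2 hP hPG
  refine ⟨Finset.univ.map (e.trans g.toEmbedding), by simp, ?_⟩
  simp only [Finset.mem_map, Finset.mem_univ, true_and, forall_exists_index,
    Function.Embedding.trans_apply, Equiv.coe_toEmbedding]
  intro _ a rfl _ b rfl _ c rfl _ d rfl h1 h2 h3 h4 h5 h6
  have := hgP _ (Subgroup.mem_map_of_mem _ (mem_klein (i := a) (j := b) (k := c) (l := d)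
    (mt (fun h => by rw [h]) h1) (mt (fun h => by rw [h]) h2) (mt (fun h => by rw [h]) h3)
    (mt (fun h => by rw [h]) h4) (mt (fun h => by rw [h]) h5) (mt (fun h => by rw [h]) h6)))
  rw [map_mul, viaEmbedding_swap, viaEmbedding_swap] at this
  have e' : g * (swap (e a) (e b) * swap (e c) (e d)) * g⁻¹ =
      (g * swap (e a) (e b) * g⁻¹) * (g * swap (e c) (e d) * g⁻¹) := by group
  rwa [e', conj_swap, conj_swap] at this

/-- Two quads meet trivially or coincide unless `H` has an element of order three. -/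
theorem quad_inter {H : Subgroup (Perm α)} (h3 : ∀ x ∈ H, x ^ 3 = 1 → x = 1) {Q Q' : Finset α}
    (hQ : IsQuad H Q) (hQ' : IsQuad H Q') (hne : Q ≠ Q') : Disjoint Q Q' := by
  rw [Finset.disjoint_iff_inter_eq_empty]
  by_contra hne0
  have hI : 0 < (Q ∩ Q').card := Finset.card_pos.mpr (Finset.nonempty_iff_ne_empty.mpr hne0)
  have hd1 := Finset.card_sdiff_add_card_inter Q Q'
  have hd2 := Finset.card_sdiff_add_card_inter Q' Q
  rw [Finset.inter_comm Q' Q, hQ'.1] at hd2
  rw [hQ.1] at hd1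
  have hI4 : (Q ∩ Q').card ≠ 4 := fun h => hne (by
    have e1 : Q ∩ Q' = Q := Finset.eq_of_subset_of_card_le Finset.inter_subset_left (by rw [h, hQ.1])
    have e2 : Q ∩ Q' = Q' := Finset.eq_of_subset_of_card_le Finset.inter_subset_right (by rw [h, hQ'.1])
    exact e1.symm.trans e2)
  have hcase : (Q ∩ Q').card = 1 ∨ (Q ∩ Q').card = 2 ∨ (Q ∩ Q').card = 3 := by omega
  rcases hcase with h | h | h
  · obtain ⟨a, ha⟩ := Finset.card_eq_one.mp h
    obtain ⟨b, c, d, hbc, hbd, hcd, hbcd⟩ := Finset.card_eq_three.mp (show (Q \ Q').card = 3 by omega)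
    obtain ⟨e, f, g, hef, heg, hfg, hefg⟩ :=
      Finset.card_eq_three.mp (show (Q' \ Q).card = 3 by omega)
    simp only [Finset.ext_iff, Finset.mem_sdiff, Finset.mem_inter, Finset.mem_insert,
      Finset.mem_singleton] at ha hbcd hefg
    obtain ⟨haQ, haQ'⟩ := (ha a).2 rfl
    obtain ⟨hbQ, hbQ'⟩ := (hbcd b).2 (Or.inl rfl)
    obtain ⟨hcQ, hcQ'⟩ := (hbcd c).2 (Or.inr (Or.inl rfl))
    obtain ⟨hdQ, hdQ'⟩ := (hbcd d).2 (Or.inr (Or.inr rfl))
    obtain ⟨heQ', heQ⟩ := (hefg e).2 (Or.inl rfl)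
    obtain ⟨hfQ', hfQ⟩ := (hefg f).2 (Or.inr (Or.inl rfl))
    obtain ⟨hgQ', hgQ⟩ := (hefg g).2 (Or.inr (Or.inr rfl))
    have hab : a ≠ b := fun e0 => hbQ' (e0 ▸ haQ')
    have hac : a ≠ c := fun e0 => hcQ' (e0 ▸ haQ')
    have had : a ≠ d := fun e0 => hdQ' (e0 ▸ haQ')
    have hae : a ≠ e := fun e0 => heQ (e0 ▸ haQ)
    have haf : a ≠ f := fun e0 => hfQ (e0 ▸ haQ)
    have hag : a ≠ g := fun e0 => hgQ (e0 ▸ haQ)
    have hbe : b ≠ e := fun e0 => heQ (e0 ▸ hbQ)
    have hbf : b ≠ f := fun e0 => hfQ (e0 ▸ hbQ)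
    have hbg : b ≠ g := fun e0 => hgQ (e0 ▸ hbQ)
    have hce : c ≠ e := fun e0 => heQ (e0 ▸ hcQ)
    have hcf : c ≠ f := fun e0 => hfQ (e0 ▸ hcQ)
    have hcg : c ≠ g := fun e0 => hgQ (e0 ▸ hcQ)
    have hde : d ≠ e := fun e0 => heQ (e0 ▸ hdQ)
    have hdf : d ≠ f := fun e0 => hfQ (e0 ▸ hdQ)
    have hdg : d ≠ g := fun e0 => hgQ (e0 ▸ hdQ)
    have hs := hQ.2 a haQ b hbQ c hcQ d hdQ hab hac had hbc hbd hcd
    have ht := hQ'.2 a haQ' e heQ' f hfQ' g hgQ' hae haf hag hef heg hfg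
    set u := swap a b * swap a e with hu
    set w := swap c d * swap f g with hw
    have cfg : Commute (swap c d) (swap f g) := swap_comm_swap hcf hcg hdf hdg
    have c1 : Commute (swap c d) (swap a e) :=
      swap_comm_swap hac.symm hce had.symm hde
    have c2 : Commute u w :=
      Commute.mul_left ((swap_comm_swap hac had hbc hbd).mul_right (swap_comm_swap haf hag hbf hbg))
        ((swap_comm_swap hac had hce.symm hde.symm).mul_right (swap_comm_swap haf hag hef heg))
    have hw2 : w * w = 1 := by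
      rw [hw, mul_assoc, ← mul_assoc (swap f g), ← cfg.eq, mul_assoc, swap_mul_self, mul_one,
        swap_mul_self]
    have hst : swap a b * swap c d * (swap a e * swap f g) = u * w := by
      rw [hu, hw, mul_assoc, ← mul_assoc (swap c d), c1.eq]
      group
    have hu3 : u ^ 3 = 1 := by
      rw [← (Perm.isThreeCycle_swap_mul_swap_same hab hae hbe).orderOf]
      exact pow_orderOf_eq_one _
    have hu1 : u ≠ 1 := (Perm.isThreeCycle_swap_mul_swap_same hab hae hbe).isCycle.ne_one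
    have h4 : (u * w) ^ 4 = u := by
      rw [c2.mul_pow, show (4 : ℕ) = 3 + 1 from rfl, pow_succ u, hu3, one_mul,
        show (3 + 1 : ℕ) = 2 * 2 from rfl, pow_mul, sq w, hw2, one_pow, mul_one]
    refine hu1 (h3 u ?_ hu3)
    rw [← h4, ← hst]
    exact pow_mem (mul_mem hs ht) 4
  · obtain ⟨a, b, hab, ha⟩ := Finset.card_eq_two.mp h
    obtain ⟨c, d, hcd, hcd'⟩ := Finset.card_eq_two.mp (show (Q \ Q').card = 2 by omega)
    obtain ⟨e, f, hef, hef'⟩ := Finset.card_eq_two.mp (show (Q' \ Q).card = 2 by omega)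
    simp only [Finset.ext_iff, Finset.mem_sdiff, Finset.mem_inter, Finset.mem_insert,
      Finset.mem_singleton] at ha hcd' hef'
    obtain ⟨haQ, haQ'⟩ := (ha a).2 (Or.inl rfl)
    obtain ⟨hbQ, hbQ'⟩ := (ha b).2 (Or.inr rfl)
    obtain ⟨hcQ, hcQ'⟩ := (hcd' c).2 (Or.inl rfl)
    obtain ⟨hdQ, hdQ'⟩ := (hcd' d).2 (Or.inr rfl)
    obtain ⟨heQ', heQ⟩ := (hef' e).2 (Or.inl rfl)
    obtain ⟨hfQ', hfQ⟩ := (hef' f).2 (Or.inr rfl)
    have hac : a ≠ c := fun e0 => hcQ' (e0 ▸ haQ')
    have had : a ≠ d := fun e0 => hdQ' (e0 ▸ haQ')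
    have hbc : b ≠ c := fun e0 => hcQ' (e0 ▸ hbQ')
    have hbd : b ≠ d := fun e0 => hdQ' (e0 ▸ hbQ')
    have hae : a ≠ e := fun e0 => heQ (e0 ▸ haQ)
    have haf : a ≠ f := fun e0 => hfQ (e0 ▸ haQ)
    have hbe : b ≠ e := fun e0 => heQ (e0 ▸ hbQ)
    have hbf : b ≠ f := fun e0 => hfQ (e0 ▸ hbQ)
    have hce : c ≠ e := fun e0 => heQ (e0 ▸ hcQ)
    have hcf : c ≠ f := fun e0 => hfQ (e0 ▸ hcQ)
    have hde : d ≠ e := fun e0 => heQ (e0 ▸ hdQ)
    have hdf : d ≠ f := fun e0 => hfQ (e0 ▸ hdQ)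
    have hs := hQ.2 a haQ c hcQ b hbQ d hdQ hac hab had hbc.symm hcd hbd
    have ht := hQ'.2 a haQ' e heQ' b hbQ' f hfQ' hae hab haf hbe.symm hef hbf
    set u := swap a c * swap a e with hu
    set w := swap b d * swap b f with hw
    have c1 : Commute (swap b d) (swap a e) := swap_comm_swap hab.symm hbe had.symm hde
    have c2 : Commute u w :=
      Commute.mul_left ((swap_comm_swap hab had hbc.symm hcd).mul_right (swap_comm_swap hab haf hbc.symm hcf))
        ((swap_comm_swap hab had hbe.symm hde.symm).mul_right (swap_comm_swap hab haf hbe.symm hef))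
    have hst : swap a c * swap b d * (swap a e * swap b f) = u * w := by
      rw [hu, hw, mul_assoc, ← mul_assoc (swap b d), c1.eq]
      group
    have hu3 : u ^ 3 = 1 := by
      rw [← (Perm.isThreeCycle_swap_mul_swap_same hac hae hce).orderOf]
      exact pow_orderOf_eq_one _
    have hw3 : w ^ 3 = 1 := by
      rw [← (Perm.isThreeCycle_swap_mul_swap_same hbd hbf hdf).orderOf]
      exact pow_orderOf_eq_one _
    have h1 := h3 (u * w) (hst ▸ mul_mem hs ht) (by rw [c2.mul_pow, hu3, hw3, one_mul])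
    have h2 := congrArg (fun g : Perm α => g a) h1
    simp [hu, hw, swap_apply_def, hab, hac, had, hae, haf, hbc, hbd, hbe, hbf, hce, hcf, hde, hdf,
      hab.symm, hac.symm, had.symm, hae.symm, haf.symm, hbc.symm, hbd.symm, hbe.symm, hbf.symm,
      hce.symm, hcf.symm, hde.symm, hdf.symm, hef, hcd] at h2
  · obtain ⟨a, b, c, hab, hac, hbc, ha⟩ := Finset.card_eq_three.mp h
    obtain ⟨d, hd'⟩ := Finset.card_eq_one.mp (show (Q \ Q').card = 1 by omega)
    obtain ⟨e, he'⟩ := Finset.card_eq_one.mp (show (Q' \ Q).card = 1 by omega)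
    simp only [Finset.ext_iff, Finset.mem_sdiff, Finset.mem_inter, Finset.mem_insert,
      Finset.mem_singleton] at ha hd' he'
    obtain ⟨haQ, haQ'⟩ := (ha a).2 (Or.inl rfl)
    obtain ⟨hbQ, hbQ'⟩ := (ha b).2 (Or.inr (Or.inl rfl))
    obtain ⟨hcQ, hcQ'⟩ := (ha c).2 (Or.inr (Or.inr rfl))
    obtain ⟨hdQ, hdQ'⟩ := (hd' d).2 rfl
    obtain ⟨heQ', heQ⟩ := (he' e).2 rfl
    have had : a ≠ d := fun e0 => hdQ' (e0 ▸ haQ')
    have hbd : b ≠ d := fun e0 => hdQ' (e0 ▸ hbQ')
    have hcd : c ≠ d := fun e0 => hdQ' (e0 ▸ hcQ')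
    have hae : a ≠ e := fun e0 => heQ (e0 ▸ haQ)
    have hbe : b ≠ e := fun e0 => heQ (e0 ▸ hbQ)
    have hce : c ≠ e := fun e0 => heQ (e0 ▸ hcQ)
    have hde : d ≠ e := fun e0 => heQ (e0 ▸ hdQ)
    have hs := hQ.2 a haQ b hbQ c hcQ d hdQ hab hac had hbc hbd hcd
    have ht := hQ'.2 a haQ' b hbQ' c hcQ' e heQ' hab hac hae hbc hbe hce
    have h3c := Perm.isThreeCycle_swap_mul_swap_same hcd hce hde
    have hst : swap a b * swap c d * (swap a b * swap c e) = swap c d * swap c e := by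
      rw [← mul_assoc, mul_assoc (swap a b), ← (swap_comm_swap hac had hbc hbd).eq, ← mul_assoc,
        swap_mul_self, one_mul]
    exact h3c.isCycle.ne_one (h3 _ (hst ▸ mul_mem hs ht) (h3c.orderOf ▸ pow_orderOf_eq_one _))

/-- Conjugates of an odd prime cycle lie in a Hall subgroup. -/
theorem exists_cycle {π : Set ℕ} {H G : Subgroup (Perm α)} (hA : alternatingGroup α ≤ G)
    (hH : Cfsg.IsPiHallOf π H G) {p : ℕ} (hp : p.Prime) (hp2 : p ≠ 2) (hpπ : p ∈ π)
    (hpn : p ≤ Fintype.card α) : ∃ σ ∈ H, σ.IsCycle ∧ σ.support.card = p := by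
  obtain ⟨e⟩ : Nonempty (Fin p ↪ α) := Function.Embedding.nonempty_of_card_le (by simpa using hpn)
  have hl : (List.ofFn e).Nodup := List.nodup_ofFn.mpr e.injective
  have hlen : 2 ≤ (List.ofFn e).length := by simpa using hp.two_le
  set s := (List.ofFn e).formPerm
  have hc : s.IsCycle := List.isCycle_formPerm hl hlen
  have hs : s.support.card = p := by
    rw [List.support_formPerm_of_nodup _ hl (by
      intro x hx
      have := congrArg List.length hx
      simp at this
      exact hp.ne_one this), List.card_toFinset, hl.dedup, List.length_ofFn]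
  have hsG : s ∈ G := hA (Perm.mem_alternatingGroup.mpr (by
    rw [hc.sign, hs, (hp.odd_of_ne_two hp2).neg_one_pow, neg_neg]))
  have hP : IsPGroup p (Subgroup.zpowers s) := IsPGroup.of_card (n := 1) (by
    rw [Nat.card_zpowers, hc.orderOf, hs, pow_one])
  obtain ⟨g, -, hg⟩ := exists_conj_mem hH hp hpπ hP (Subgroup.zpowers_le.mpr hsG)
  exact ⟨_, hg s (Subgroup.mem_zpowers s), hc.conj, by rw [Perm.card_support_conj, hs]⟩

/-- If `H` contains the alternating group all primes up to the degree lie in π. -/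
theorem all_of_alternating_le {π : Set ℕ} {H : Subgroup (Perm α)}
    (hπ : ∀ p : ℕ, p.Prime → p ∣ Nat.card H → p ∈ π) (hn : 4 ≤ Fintype.card α)
    (hA : alternatingGroup α ≤ H) {r : ℕ} (hr : r.Prime) (hrn : r ≤ Fintype.card α) : r ∈ π := by
  refine hπ r hr (dvd_trans ?_ (Subgroup.card_dvd_of_le hA))
  haveI : Nontrivial α := Fintype.one_lt_card_iff_nontrivial.mp (by omega)
  have h1 : 2 * Nat.card (alternatingGroup α) = (Fintype.card α).factorial := by
    rw [two_mul_nat_card_alternatingGroup, Nat.card_eq_fintype_card, Fintype.card_perm]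
  by_cases h2 : r = 2
  · subst h2
    have h4 : 4 ∣ (Fintype.card α).factorial :=
      (show (4 : ℕ) ∣ (4 : ℕ).factorial by decide).trans (Nat.factorial_dvd_factorial hn)
    omega
  · have := hr.dvd_factorial.mpr hrn
    rw [← h1] at this
    exact (hr.dvd_mul.mp this).resolve_left fun h =>
      h2 ((Nat.prime_dvd_prime_iff_eq hr Nat.prime_two).mp h)

/-- A Hall subgroup is not primitive unless all primes up to the degree are in π. -/
theorem not_preprimitive {π : Set ℕ} {H G : Subgroup (Perm α)} (hA : alternatingGroup α ≤ G)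
    (hH : Cfsg.IsPiHallOf π H G)
    (h2 : ∃ r s : ℕ, r.Prime ∧ s.Prime ∧ r ≠ s ∧ r ∈ π ∧ s ∈ π ∧ r ≤ Fintype.card α ∧
      s ≤ Fintype.card α)
    (hns : ∃ r : ℕ, r.Prime ∧ r ≤ Fintype.card α ∧ r ∉ π) (hn : 5 ≤ Fintype.card α) :
    ¬ MulAction.IsPreprimitive H α := by
  intro hprim
  obtain ⟨t, ht, htn, htπ⟩ := hns
  have hAH : ¬ alternatingGroup α ≤ H := fun h =>
    htπ (all_of_alternating_le hH.2.1 (by omega) h ht htn)
  have hJ : ∀ p : ℕ, p.Prime → p ≠ 2 → p ∈ π → p + 3 ≤ Fintype.card α → False := by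
    intro p hp hp2 hpπ hp3
    obtain ⟨σ, hσ, hc, hs⟩ := exists_cycle hA hH hp hp2 hpπ (by omega)
    exact hAH (Perm.alternatingGroup_le_of_isCycle_prime hprim hp
      (by rw [Nat.card_eq_fintype_card]; exact hp3) hc hs hσ)
  have h3π : 3 ∉ π := fun h => by
    obtain ⟨σ, hσ, -, hs⟩ := exists_cycle hA hH Nat.prime_three (by decide) h (by omega)
    exact hAH (Perm.alternatingGroup_le_of_isPreprimitive_of_isThreeCycle_mem hprim
      (card_support_eq_three_iff.mp hs) hσ)
  have h3 : ∀ x ∈ H, x ^ 3 = 1 → x = 1 := fun x hx hx3 => by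
    by_contra hx1
    haveI : Fact (Nat.Prime 3) := ⟨Nat.prime_three⟩
    refine h3π (hH.2.1 3 Nat.prime_three ?_)
    rw [← orderOf_eq_prime hx3 hx1]
    exact H.orderOf_dvd_natCard hx
  by_cases h2π : 2 ∈ π
  · obtain ⟨Q, hQ⟩ := exists_quad hA hH h2π (by omega)
    have hB : MulAction.IsBlock H (Q : Set α) := MulAction.isBlock_iff_smul_eq_or_disjoint.mpr
      fun h => by
        have e : h • (Q : Set α) = (Q.map (h : Perm α).toEmbedding : Finset α) := by
          rw [Finset.coe_map]; rfl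
        rw [e, Finset.coe_inj, Finset.disjoint_coe]
        by_cases heq : Q.map (h : Perm α).toEmbedding = Q
        · exact Or.inl heq
        · exact Or.inr (quad_inter h3 (isQuad_map hQ h.2) hQ heq)
    rcases hB.subsingleton_or_eq_univ with h | h
    · have h1 := Set.ncard_le_one_iff_subsingleton.mpr h
      rw [Set.ncard_coe_finset, hQ.1] at h1
      omega
    · have h1 := congrArg Set.ncard h
      rw [Set.ncard_coe_finset, hQ.1, Set.ncard_univ, Nat.card_eq_fintype_card] at h1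
      omega
  · obtain ⟨p, q, hp, hq, hpπ, hqπ, hpn, hqn, hpq⟩ : ∃ p q : ℕ, p.Prime ∧ q.Prime ∧ p ∈ π ∧ q ∈ π ∧
        p ≤ Fintype.card α ∧ q ≤ Fintype.card α ∧ p < q := by
      obtain ⟨r, s, hr, hs, hrs, hrπ, hsπ, hrn, hsn⟩ := h2
      rcases lt_or_gt_of_ne hrs with h | h
      · exact ⟨r, s, hr, hs, hrπ, hsπ, hrn, hsn, h⟩
      · exact ⟨s, r, hs, hr, hsπ, hrπ, hsn, hrn, h⟩
    have hp2 : p ≠ 2 := fun h => h2π (h ▸ hpπ)
    have hp3 : p ≠ 3 := fun h => h3π (h ▸ hpπ)
    have hq2 : q ≠ 2 := fun h => h2π (h ▸ hqπ)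
    have hlow : Fintype.card α < p + 3 := not_le.mp fun h => hJ p hp hp2 hpπ h
    obtain ⟨k, hk⟩ := hp.odd_of_ne_two hp2
    obtain ⟨l, hl⟩ := hq.odd_of_ne_two hq2
    have hp5 : 5 ≤ p := by have := hp.two_le; omega
    have hqp : q = p + 2 := by omega
    have hnq : Fintype.card α = q := by omega
    haveI := Fact.mk hp
    have hdvd : Nat.card H ∣ (Fintype.card α).factorial := by
      rw [← Fintype.card_perm, ← Nat.card_eq_fintype_card]
      exact H.card_subgroup_dvd_card
    obtain ⟨σ, hσ, hc, hs⟩ := exists_cycle hA hH hp hp2 hpπ hpn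
    have hos : orderOf σ = p := by rw [hc.orderOf, hs]
    have hp2d : ¬ p ^ 2 ∣ Nat.card H := fun h => by
      have := (hp.pow_dvd_factorial_iff (b := 2) ?_).mp (h.trans hdvd)
      · simp only [show Finset.Ico 1 2 = {1} from rfl, Finset.sum_singleton, pow_one] at this
        have := (Nat.div_lt_iff_lt_mul hp.pos).mpr (show Fintype.card α < 2 * p by omega)
        omega
      · refine Nat.log_lt_of_lt_pow (by omega) ?_
        nlinarith
    have hfac : (Nat.card H).factorization p = 1 := by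
      refine le_antisymm ?_ ?_
      · by_contra h
        exact hp2d ((hp.pow_dvd_iff_le_factorization Nat.card_pos.ne').mpr (by omega))
      · refine (hp.pow_dvd_iff_le_factorization Nat.card_pos.ne').mp ?_
        rw [pow_one, ← hos]
        exact H.orderOf_dvd_natCard hσ
    let P : Sylow p H := Sylow.ofCard (Subgroup.zpowers ⟨σ, hσ⟩) (by
      rw [Nat.card_zpowers, Subgroup.orderOf_mk, hos, hfac, pow_one])
    have hone : Nat.card (Sylow p H) = 1 := by
      have hmod := card_sylow_modEq_one p H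
      have hd : Nat.card (Sylow p H) ∣ Nat.card H :=
        (P.card_dvd_index).trans P.1.index_dvd_card
      have hdq : Nat.card (Sylow p H) ∣ q ^ 1 := by
        obtain ⟨m, hm⟩ : ∃ m, Nat.card (Sylow p H) = q ^ m := by
          refine ⟨_, Nat.eq_prime_pow_of_unique_prime_dvd Nat.card_pos.ne' fun {d} hd' hdd => ?_⟩
          have hdπ : d ∈ π := hH.2.1 d hd' (hdd.trans hd)
          have hdn : d ≤ Fintype.card α := (hd'.dvd_factorial).mp ((hdd.trans hd).trans hdvd)
          have hdp : d ≠ p := by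
            rintro rfl
            have := (Nat.ModEq.dvd_iff (hmod) (dvd_refl d)).mp hdd
            exact hd'.ne_one (Nat.dvd_one.mp this)
          have hd2 : d ≠ 2 := fun h => h2π (h ▸ hdπ)
          have hd3 : ¬ d + 3 ≤ Fintype.card α := fun h => hJ d hd' hd2 hdπ h
          obtain ⟨i, hi⟩ := hd'.odd_of_ne_two hd2
          omega
        rw [hm]
        refine pow_dvd_pow q ?_
        by_contra hm1
        have h1 : q ^ 2 ∣ (Fintype.card α).factorial :=
          (pow_dvd_pow q (show 2 ≤ m by omega)).trans (hm ▸ hd.trans hdvd)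
        have := (hq.pow_dvd_factorial_iff (b := 2) ?_).mp h1
        · simp only [show Finset.Ico 1 2 = {1} from rfl, Finset.sum_singleton, pow_one, hnq] at this
          rw [Nat.div_self hq.pos] at this
          omega
        · refine Nat.log_lt_of_lt_pow (by omega) ?_
          nlinarith
      rw [pow_one] at hdq
      refine ((Nat.dvd_prime hq).mp hdq).resolve_right fun h => ?_
      rw [h, hqp, add_comm] at hmod
      have : (2 : ℕ) ≡ 1 [MOD p] := (Nat.add_modEq_left_iff.mpr (dvd_refl p)).symm.trans hmod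
      rw [Nat.ModEq, Nat.mod_eq_of_lt (by omega), Nat.mod_eq_of_lt (by omega)] at this
      omega
    haveI : Subsingleton (Sylow p H) := (Nat.card_eq_one_iff_unique.mp hone).1
    have hnor := P.normal_of_subsingleton
    obtain ⟨x, hx⟩ : ∃ x, σ x = x := by
      by_contra! hall
      have : σ.support = Finset.univ := Finset.eq_univ_iff_forall.mpr fun y => Perm.mem_support.mpr (hall y)
      rw [this, Finset.card_univ] at hs
      omega
    refine hc.ne_one (Equiv.ext fun y => ?_)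
    obtain ⟨h, hh⟩ := hprim.toIsPretransitive.exists_smul_eq x y
    have hm : h⁻¹ * (⟨σ, hσ⟩ : H) * h⁻¹⁻¹ ∈ Subgroup.zpowers (⟨σ, hσ⟩ : H) :=
      hnor.conj_mem _ (Subgroup.mem_zpowers _) h⁻¹
    obtain ⟨i, hi⟩ := Subgroup.mem_zpowers_iff.mp hm
    have h1 := congrArg (fun g : H => (g : Perm α) x) hi
    simp only [SubgroupClass.coe_zpow, Subgroup.coe_mul, InvMemClass.coe_inv, inv_inv,
      Perm.mul_apply] at h1
    rw [Perm.zpow_apply_eq_self_of_apply_eq_self hx] at h1
    have h2 := congrArg (h : Perm α) h1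
    rw [ap_inv] at h2
    show σ y = y
    rw [← hh]
    exact h2.symm

end CfsgLib.SymHall
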