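/-
Hall π-subgroups of the alternating and symmetric groups: where they live.
-/
import Cfsg.Agent.Lib.SymHall.NumberLemma
import Cfsg.Agent.Lib.SymHall.Primitive

set_option autoImplicit false
set_option linter.style.haveILetI false

namespace CfsgLib.SymHall

open Equiv
open scoped Pointwise

universe u

/-- At least two primes of π are `≤ n`. -/
def TwoPrimes (π : Set ℕ) (n : ℕ) : Prop :=
  ∃ r s : ℕ, r.Prime ∧ s.Prime ∧ r ≠ s ∧ r ∈ π ∧ s ∈ π ∧ r ≤ n ∧ s ≤ n

/-- The primes of π up to `n` are those smaller than `n`, which is prime. -/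
def CaseA (π : Set ℕ) (n : ℕ) : Prop :=
  n.Prime ∧ ∀ r : ℕ, r.Prime → r ≤ n → (r ∈ π ↔ r < n)

/-- The primes of π up to `n` are 2 and 3. -/
def TwoThree (π : Set ℕ) (n : ℕ) : Prop :=
  ∀ r : ℕ, r.Prime → r ≤ n → (r ∈ π ↔ (r = 2 ∨ r = 3))

/-- The possible positions of a Hall π-subgroup. -/
def Position {α : Type u} [Finite α] (π : Set ℕ) (H : Subgroup (Perm α)) : Prop :=
  (CaseA π (Nat.card α) ∧
      ∃ f : α → Bool, Nat.card {x // f x = true} = 1 ∧ H ≤ fixFun f) ∨
    (Nat.card α = 7 ∧ TwoThree π 7 ∧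
      ∃ f : α → Bool, Nat.card {x // f x = true} = 3 ∧ H ≤ fixFun f) ∨
    (Nat.card α = 8 ∧ TwoThree π 8 ∧
      ∃ f : α → Bool, Nat.card {x // f x = true} = 4 ∧ H ≤ partFun f)

/-- What induction gives for a degree with two primes of π. -/
def Shape (π : Set ℕ) (n : ℕ) : Prop :=
  (∀ r : ℕ, r.Prime → r ≤ n → r ∈ π) ∨ CaseA π n ∨ ((n = 7 ∨ n = 8) ∧ TwoThree π n)

theorem exists_moved_of_alternating {α : Type u} [Fintype α] [DecidableEq α]
    {G : Subgroup (Perm α)} (hA : alternatingGroup α ≤ G) (hn : 3 ≤ Fintype.card α) (x : α) :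
    ∃ g ∈ G, g x ≠ x := by
  obtain ⟨y, z, hy, hz, hyz⟩ : ∃ y z, y ≠ x ∧ z ≠ x ∧ y ≠ z := by
    have : 1 < (Finset.univ.erase x).card := by
      rw [Finset.card_erase_of_mem (Finset.mem_univ x), Finset.card_univ]; omega
    obtain ⟨y, hy, z, hz, hyz⟩ := Finset.one_lt_card.mp this
    exact ⟨y, z, (Finset.mem_erase.mp hy).1, (Finset.mem_erase.mp hz).1, hyz⟩
  refine ⟨swap x y * swap x z, hA (Perm.mem_alternatingGroup.mpr ?_), ?_⟩
  · exact sign_swap_mul_swap hy.symm hz.symm
  · rw [Perm.mul_apply, swap_apply_left, swap_apply_of_ne_of_ne hz hyz.symm]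
    exact hz

section Choose

theorem prime_of_choose_one {k : ℕ} (hk : 1 ≤ k)
    (h : ∀ p : ℕ, p.Prime → p ≤ k → ¬ p ∣ k + 1) : (k + 1).Prime := by
  by_contra hnp
  obtain ⟨p, hp, hd⟩ := Nat.exists_prime_and_dvd (n := k + 1) (by omega)
  have := two_mul_le_of_prime_dvd hp hd hnp (by omega)
  exact h p hp (by omega) hd

theorem not_self_dvd_choose {k j : ℕ} (hk : k.Prime) (hj : j < k) : ¬ k ∣ (k + j).choose j := by
  intro hd
  have h1 := Nat.choose_mul_factorial_mul_factorial (show j ≤ k + j by omega)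
  rw [Nat.add_sub_cancel] at h1
  have h2 : k ^ 2 ∣ (k + j).factorial := by
    rw [← h1, sq]
    exact mul_dvd_mul (hd.mul_right _) (hk.dvd_factorial.mpr le_rfl)
  have h3 := (hk.pow_dvd_factorial_iff (b := 2) ?_).mp h2
  · simp only [show Finset.Ico 1 2 = {1} from rfl, Finset.sum_singleton, pow_one] at h3
    rw [Nat.le_div_iff_mul_le hk.pos] at h3
    omega
  · refine Nat.log_lt_of_lt_pow (by have := hk.two_le; omega) ?_
    nlinarith [hk.two_le]

theorem dvd_uniformBell (a b : ℕ) (hb : 2 ≤ b) :
    (a + a - 1).choose (a - 1) ∣ Nat.uniformBell b a := by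
  induction b, hb using Nat.le_induction with
  | base => rw [Nat.uniformBell_succ_left, one_mul]; exact Dvd.intro _ rfl
  | succ b _ ih => rw [Nat.uniformBell_succ_left]; exact ih.mul_left _

theorem dvd_uniformBell_three (a b : ℕ) (hb : 3 ≤ b) :
    (2 * a + a - 1).choose (a - 1) ∣ Nat.uniformBell b a := by
  induction b, hb using Nat.le_induction with
  | base => rw [Nat.uniformBell_succ_left]; exact Dvd.intro _ rfl
  | succ b _ ih => rw [Nat.uniformBell_succ_left]; exact ih.mul_left _

end Choose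

section Steps

variable {α : Type u} [Fintype α] [DecidableEq α] {π : Set ℕ}

/-- The intransitive step. -/
theorem intransitive_step {H G : Subgroup (Perm α)} (hA : alternatingGroup α ≤ G)
    (hH : Cfsg.IsPiHallOf π H G) (h2 : TwoPrimes π (Fintype.card α)) (hn5 : 5 ≤ Fintype.card α)
    (ih : ∀ (β : Type u) [Fintype β] [DecidableEq β] (H' G' : Subgroup (Perm β)),
      Fintype.card β < Fintype.card α → alternatingGroup β ≤ G' → Cfsg.IsPiHallOf π H' G' →
      TwoPrimes π (Fintype.card β) → Shape π (Fintype.card β))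
    (f : α → Bool) (hf : H ≤ fixFun f)
    {j k : ℕ} (hj : Nat.card {x // f x = true} = j) (hk : Nat.card {x // f x = false} = k)
    (hj1 : 1 ≤ j) (hjk : j ≤ k) : Position π H := by
  classical
  have hn : Fintype.card α = k + j := by
    rw [← Nat.card_eq_fintype_card, card_eq_sum_fibre f, Fintype.sum_bool, hj, hk, add_comm]
  have hcardα : Nat.card α = k + j := by rw [Nat.card_eq_fintype_card, hn]
  have hodd : ∃ g ∈ fixFun f, Perm.sign g = -1 := by
    obtain ⟨⟨a, ha⟩, ⟨b, hb⟩, hne⟩ :=
      (Fintype.one_lt_card_iff_nontrivial.mp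
        (show 1 < Fintype.card {x // f x = false} by rw [← Nat.card_eq_fintype_card, hk]; omega)).exists_pair_ne
    exact ⟨swap a b, swap_mem_fixFun (ha.trans hb.symm), Perm.sign_swap fun h => hne (Subtype.ext h)⟩
  have hidx : (fixFun f).index = (k + j).choose j := by
    have h1 := (fixFun f).card_mul_index
    rw [card_fixFun, Fintype.prod_bool, hj, hk, Nat.card_perm, hcardα,
      ← Nat.choose_mul_factorial_mul_factorial (show j ≤ k + j by omega), Nat.add_sub_cancel] at h1
    exact Nat.eq_of_mul_eq_mul_left (show 0 < j.factorial * k.factorial by positivity)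
      (h1.trans (by ring))
  have hC : ∀ p : ℕ, p.Prime → p ∈ π → ¬ p ∣ (k + j).choose j := by
    intro p hp hpπ
    rw [← hidx, ← relIndex_inf_of_odd hA hodd]
    exact hall_index hH (le_inf hH.1 hf) inf_le_left p hp hpπ
  have hple : ∀ p : ℕ, p.Prime → p ∈ π → p ≤ k + j → p ≤ k := by
    intro p hp hpπ hpn
    by_contra h
    refine hC p hp hpπ ?_
    have h1 : p ∣ (k + j).choose j * j.factorial * k.factorial := by
      have := Nat.choose_mul_factorial_mul_factorial (show j ≤ k + j by omega)
      rw [Nat.add_sub_cancel] at this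
      rw [this]; exact hp.dvd_factorial.mpr hpn
    rcases hp.dvd_mul.mp h1 with h2 | h2
    · rcases hp.dvd_mul.mp h2 with h3 | h3
      · exact h3
      · exact absurd (hp.dvd_factorial.mp h3) (by omega)
    · exact absurd (hp.dvd_factorial.mp h2) h
  have h2k : TwoPrimes π k := by
    obtain ⟨r, s, hr, hs, hrs, hrπ, hsπ, hrn, hsn⟩ := h2
    exact ⟨r, s, hr, hs, hrs, hrπ, hsπ, hple r hr hrπ (hn ▸ hrn), hple s hs hsπ (hn ▸ hsn)⟩
  have hcardk : Fintype.card {x // f x = false} = k := by rw [← Nat.card_eq_fintype_card, hk]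
  have hshape : Shape π k := by
    have h1 := hall_map (hall_of_le hH (le_inf hH.1 hf) (inf_le_left : G ⊓ fixFun f ≤ G))
      ((fibreHom f false).comp (Subgroup.inclusion inf_le_right))
    have := ih {x // f x = false} _ _ (by omega) (fibreHom_range f false hA) h1 (hcardk.symm ▸ h2k)
    rwa [hcardk] at this
  obtain ⟨r, s, hr, hs, hrs, hrπ, hsπ, hrk, hsk⟩ := h2k
  have hk3 : 3 ≤ k := by have := hr.two_le; have := hs.two_le; omega
  rcases hshape with hall | ⟨hkp, hkπ⟩ | ⟨h78, h23⟩
  · have hC' : ∀ p : ℕ, p.Prime → p ≤ k → ¬ p ∣ (k + j).choose j :=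
      fun p hp hpk => hC p hp (hall p hp hpk)
    by_cases hj1' : j = 1
    · subst hj1'
      simp only [Nat.choose_one_right] at hC'
      refine Or.inl ⟨⟨hcardα.symm ▸ prime_of_choose_one (by omega) hC', fun p hp hpn => ?_⟩, f, hj, hf⟩
      rw [hcardα] at hpn ⊢
      exact ⟨fun hpπ => Nat.lt_succ_of_le (hple p hp hpπ hpn), fun hlt => hall p hp (by omega)⟩
    · obtain ⟨rfl, rfl⟩ := choose_no_small_prime (by omega) hjk hC'
      refine Or.inr (Or.inl ⟨hcardα, fun p hp hpn => ⟨fun hpπ => ?_, ?_⟩, f, hj, hf⟩)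
      · have := hple p hp hpπ hpn
        have := hp.two_le
        interval_cases p <;> first | exact Or.inl rfl | exact Or.inr rfl | exact absurd hp (by decide)
      · rintro (rfl | rfl)
        · exact hall 2 Nat.prime_two (by norm_num)
        · exact hall 3 Nat.prime_three (by norm_num)
  · exfalso
    have h2π : 2 ∈ π := (hkπ 2 Nat.prime_two (by omega)).mpr (by omega)
    rcases eq_or_lt_of_le hjk with rfl | hlt
    · refine hC 2 Nat.prime_two h2π ?_
      have := Nat.two_dvd_centralBinom_of_one_le (show 0 < j by omega)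
      rwa [Nat.centralBinom_eq_two_mul_choose, two_mul] at this
    · have hC' : ∀ p : ℕ, p.Prime → p ≤ k → ¬ p ∣ (k + j).choose j := by
        intro p hp hpk
        rcases eq_or_lt_of_le hpk with rfl | hlt'
        · exact not_self_dvd_choose hp hlt
        · exact hC p hp ((hkπ p hp hpk).mpr hlt')
      by_cases hj1' : j = 1
      · subst hj1'
        refine hC 2 Nat.prime_two h2π ?_
        rw [Nat.choose_one_right]
        obtain ⟨m, hm⟩ := hkp.odd_of_ne_two (by omega)
        omega
      · obtain ⟨-, rfl⟩ := choose_no_small_prime (by omega) hjk hC'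
        exact absurd hkp (by decide)
  · exfalso
    have h2π : 2 ∈ π := (h23 2 Nat.prime_two (by omega)).mpr (Or.inl rfl)
    have h3π : 3 ∈ π := (h23 3 Nat.prime_three (by omega)).mpr (Or.inr rfl)
    have key : 2 ∣ (k + j).choose j ∨ 3 ∣ (k + j).choose j := by
      rcases h78 with rfl | rfl <;> interval_cases j <;> decide
    rcases key with h | h
    · exact hC 2 Nat.prime_two h2π h
    · exact hC 3 Nat.prime_three h3π h

/-- The imprimitive step. -/
theorem imprimitive_step {H G : Subgroup (Perm α)} (hA : alternatingGroup α ≤ G)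
    (hH : Cfsg.IsPiHallOf π H G) (h2 : TwoPrimes π (Fintype.card α)) (hn5 : 5 ≤ Fintype.card α)
    (ih : ∀ (β : Type u) [Fintype β] [DecidableEq β] (H' G' : Subgroup (Perm β)),
      Fintype.card β < Fintype.card α → alternatingGroup β ≤ G' → Cfsg.IsPiHallOf π H' G' →
      TwoPrimes π (Fintype.card β) → Shape π (Fintype.card β))
    [MulAction.IsPretransitive H α]
    {B : Set α} (hB : MulAction.IsBlock H B) (hBsub : ¬ B.Subsingleton) (hBuniv : B ≠ Set.univ) :
    Position π H := by
  classical
  have hne : B.Nonempty := Set.nonempty_iff_ne_empty.mpr fun h => hBsub (h ▸ Set.subsingleton_empty)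
  obtain ⟨x0, hx0⟩ := hne
  -- the block of a point
  have hex : ∀ x, ∃ h : H, x ∈ h • B := fun x => by
    obtain ⟨h, hh⟩ := MulAction.exists_smul_eq H x0 x
    exact ⟨h, hh ▸ Set.smul_mem_smul_set hx0⟩
  choose hb hhb using hex
  let F : α → Set α := fun x => hb x • B
  have huniq : ∀ x (h : H), x ∈ h • B → h • B = F x := fun x h hx =>
    (hB.smul_eq_smul_or_disjoint h (hb x)).resolve_right fun hd => Set.disjoint_left.mp hd hx (hhb x)
  have hFself : ∀ x, x ∈ F x := hhb
  have hFH : ∀ (h : H) (x : α), F ((h : Perm α) x) = h • F x := fun h x => by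
    show _ = h • (hb x • B)
    rw [smul_smul]
    exact (huniq _ _ (by rw [← smul_smul]; exact Set.smul_mem_smul_set (hFself x))).symm
  have hfib : ∀ x y, F x = F y ↔ y ∈ F x := fun x y =>
    ⟨fun h => h.symm ▸ hFself y, fun h => huniq y _ h⟩
  let f : α → Set.range F := Set.rangeFactorization F
  have hfs : Function.Surjective f := Set.rangeFactorization_surjective
  have hfF : ∀ x y, f x = f y ↔ F x = F y := fun x y => Subtype.ext_iff
  have hW : H ≤ partFun f := fun g hg x y => by
    rw [hfF, hfF, hFH ⟨g, hg⟩, hFH ⟨g, hg⟩]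
    exact (MulAction.injective (⟨g, hg⟩ : H)).image_injective.eq_iff
  -- sizes
  set a := Nat.card B with ha
  set b := Fintype.card (Set.range F) with hb'
  have hfc : ∀ i, Nat.card {x // f x = i} = a := by
    rintro ⟨_, x, rfl⟩
    rw [Nat.card_congr (Equiv.subtypeEquivRight fun y => (by
      show f y = f x ↔ y ∈ F x
      rw [hfF, eq_comm, hfib])), ha, Nat.card_coe_set_eq, Nat.card_coe_set_eq]
    exact Set.ncard_image_of_injective _ (MulAction.injective (hb x))
  have hcardα : Nat.card α = b * a := by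
    rw [card_eq_sum_fibre f, Finset.sum_congr rfl (fun i _ => hfc i), Finset.sum_const,
      Finset.card_univ, smul_eq_mul]
  have hn : Fintype.card α = b * a := by rw [← hcardα, Nat.card_eq_fintype_card]
  have ha2 : 2 ≤ a := by
    by_contra h
    apply hBsub
    rw [← Set.ncard_le_one_iff_subsingleton, ← Nat.card_coe_set_eq]
    omega
  have han : a < Fintype.card α := by
    rw [← Nat.card_eq_fintype_card, ha, Nat.card_coe_set_eq, ← Set.ncard_univ]
    exact Set.ncard_lt_ncard (Set.ssubset_univ_iff.mpr hBuniv)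
  have hb2 : 2 ≤ b := by
    by_contra h
    interval_cases b <;> omega
  have hodd : ∃ g ∈ fixFun f, Perm.sign g = -1 := by
    have h1 : 1 < Fintype.card {x // f x = f x0} := by rw [← Nat.card_eq_fintype_card, hfc]; omega
    obtain ⟨⟨u, hu⟩, ⟨v, hv⟩, hne⟩ := (Fintype.one_lt_card_iff_nontrivial.mp h1).exists_pair_ne
    exact ⟨swap u v, swap_mem_fixFun (hu.trans hv.symm), Perm.sign_swap fun h => hne (Subtype.ext h)⟩
  -- the prime divisors of `n` lie in π
  have htr : ∀ p : ℕ, p.Prime → p ∣ Fintype.card α → p ∈ π := by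
    intro p hp hd
    refine hH.2.1 p hp (hd.trans ?_)
    rw [← Nat.card_eq_fintype_card, ← MulAction.index_stabilizer_of_transitive (G := H) (x := x0)]
    exact Subgroup.index_dvd_card _
  -- primes of π are at most `a`
  have hple : ∀ p : ℕ, p.Prime → p ∈ π → p ≤ Fintype.card α → p ≤ a := by
    intro p hp hpπ hpn
    by_contra hpa
    obtain ⟨σ, hσ, hc, hs⟩ := exists_cycle hA hH hp (by omega) hpπ hpn
    have hσW := hW hσ
    have hsat : ∀ x y, x ∈ σ.support → f y = f x → y ∈ σ.support := by
      intro x y hx hyx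
      by_contra hy
      rw [Perm.notMem_support] at hy
      have hpres : ∀ z, f z = f x → f (σ z) = f x := fun z hz =>
        ((hσW z y).2 (hz.trans hyx.symm)).trans (by rw [hy, hyx])
      have hpow : ∀ i : ℕ, f ((σ ^ i) x) = f x := by
        intro i
        induction i with
        | zero => rfl
        | succ i ihi => rw [pow_succ', Perm.mul_apply]; exact hpres _ ihi
      have hsub : σ.support ⊆ Finset.univ.filter fun z => f z = f x := fun z hz => by
        obtain ⟨i, hi⟩ := hc.exists_pow_eq (Perm.mem_support.mp hx) (Perm.mem_support.mp hz)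
        rw [Finset.mem_filter]
        exact ⟨Finset.mem_univ _, hi ▸ hpow i⟩
      have := Finset.card_le_card hsub
      rw [hs, ← Fintype.card_subtype, ← Nat.card_eq_fintype_card, hfc] at this
      omega
    have hdvd : a ∣ p := by
      rw [← hs, Finset.card_eq_sum_card_fiberwise (f := f) (t := σ.support.image f)
        (fun x hx => Finset.mem_coe.mpr (Finset.mem_image_of_mem f hx))]
      refine Finset.dvd_sum fun i hi => ?_
      obtain ⟨x, hx, rfl⟩ := Finset.mem_image.mp hi
      rw [← hfc (f x), Nat.card_eq_fintype_card, Fintype.card_subtype]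
      refine dvd_of_eq (congrArg Finset.card ?_)
      ext y
      simp only [Finset.mem_filter, Finset.mem_univ, true_and]
      exact ⟨fun h => ⟨hsat x y hx h, h⟩, fun h => h.2⟩
    rcases (Nat.dvd_prime hp).mp hdvd with h | h <;> omega
  have h2a : TwoPrimes π a := by
    obtain ⟨r, s, hr, hs, hrs, hrπ, hsπ, hrn, hsn⟩ := h2
    exact ⟨r, s, hr, hs, hrs, hrπ, hsπ, hple r hr hrπ hrn, hple s hs hsπ hsn⟩
  -- the index
  have hbell : ∀ p : ℕ, p.Prime → p ∈ π → ¬ p ∣ Nat.uniformBell b a := by
    intro p hp hpπ hd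
    refine hall_index hH (le_inf hH.1 hW) inf_le_left p hp hpπ (hd.trans ?_)
    obtain ⟨g, hg, hg1⟩ := hodd
    rw [relIndex_inf_of_odd hA ⟨g, fixFun_le_partFun f hg, hg1⟩]
    obtain ⟨c, hc⟩ := card_partFun_dvd f hfs
    rw [card_fixFun, Finset.prod_congr rfl (fun i _ => by rw [hfc i]), Finset.prod_const,
      Finset.card_univ] at hc
    refine ⟨c, Nat.eq_of_mul_eq_mul_left (Nat.card_pos (α := partFun f)) ?_⟩
    rw [(partFun f).card_mul_index, Nat.card_perm, hcardα, ← Nat.uniformBell_mul_eq b (show a ≠ 0 by omega),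
      mul_assoc (Nat.uniformBell b a), hc]
    ring
  -- induction on a block
  set i0 := f x0
  have hshape : Shape π a := by
    have hL := hall_of_le hH (le_inf hH.1 hW) (inf_le_left : G ⊓ partFun f ≤ G)
    have hN := hall_inf_normal hL (inf_le_inf le_rfl (fixFun_le_partFun f) : G ⊓ fixFun f ≤ G ⊓ partFun f)
      fun g hg n hn => ⟨G.mul_mem (G.mul_mem hg.1 hn.1) (G.inv_mem hg.1), conj_mem_fixFun hg.2 hn.2⟩
    have h1 := hall_map hN ((fibreHom f i0).comp (Subgroup.inclusion inf_le_right))
    have hc : Fintype.card {x // f x = i0} = a := by rw [← Nat.card_eq_fintype_card, hfc]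
    have := ih {x // f x = i0} _ _ (by omega) (fibreHom_range f i0 hA) h1 (hc.symm ▸ h2a)
    rwa [hc] at this
  obtain ⟨r, s, hr, hs, hrs, hrπ, hsπ, hra, hsa⟩ := h2a
  have ha3 : 3 ≤ a := by have := hr.two_le; have := hs.two_le; omega
  rcases hshape with hall | ⟨hap, haπ⟩ | ⟨h78, h23⟩
  · have h4 : a = 4 := by
      have := choose_no_small_prime (j := a - 1) (k := a) (by omega) (by omega) fun p hp hpa hd =>
        hbell p hp (hall p hp hpa) (by
          rw [show a + (a - 1) = a + a - 1 by omega] at hd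
          exact hd.trans (dvd_uniformBell a b hb2))
      omega
    have hb2' : b = 2 := by
      by_contra hne
      refine hbell 3 Nat.prime_three (hall 3 Nat.prime_three (by omega)) ?_
      rw [h4]
      exact (show 3 ∣ (2 * 4 + 4 - 1).choose (4 - 1) by decide).trans (dvd_uniformBell_three 4 b (by omega))
    obtain ⟨e⟩ : Nonempty (Set.range F ≃ Bool) :=
      ⟨Fintype.equivOfCardEq (by rw [← hb', hb2', Fintype.card_bool])⟩
    refine Or.inr (Or.inr ⟨by rw [hcardα, hb2', h4], fun p hp hpn => ⟨fun hpπ => ?_, ?_⟩,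
      fun x => e (f x), ?_, ?_⟩)
    · have h' := hple p hp hpπ (by rw [hn, hb2', h4]; exact hpn)
      rw [h4] at h'
      have := hp.two_le
      interval_cases p <;> first | exact Or.inl rfl | exact Or.inr rfl | exact absurd hp (by decide)
    · rintro (rfl | rfl)
      · exact hall 2 Nat.prime_two (by omega)
      · exact hall 3 Nat.prime_three (by omega)
    · rw [Nat.card_congr (Equiv.subtypeEquivRight fun x => (by
        show e (f x) = true ↔ f x = e.symm true
        exact e.apply_eq_iff_eq_symm_apply)), hfc, h4]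
    · intro g hg x y
      rw [e.apply_eq_iff_eq, e.apply_eq_iff_eq]
      exact hW hg x y
  · exfalso
    have h1 := htr a hap (hn ▸ Dvd.intro_left b rfl)
    exact lt_irrefl a ((haπ a hap le_rfl).mp h1)
  · exfalso
    rcases h78 with h7 | h8
    · have h1 := htr a (h7 ▸ by decide) (hn ▸ Dvd.intro_left b rfl)
      have := (h23 a (h7 ▸ by decide) le_rfl).mp h1
      omega
    · refine hbell 3 Nat.prime_three ((h23 3 Nat.prime_three (by omega)).mpr (Or.inr rfl)) ?_
      rw [h8]
      exact (show 3 ∣ (8 + 8 - 1).choose (8 - 1) by decide).trans (dvd_uniformBell 8 b hb2)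

end Steps

theorem shape_of_position {α : Type u} [Finite α] {π : Set ℕ} {H : Subgroup (Perm α)}
    (h : Position π H) : Shape π (Nat.card α) := by
  rcases h with ⟨h, -⟩ | ⟨h, h23, -⟩ | ⟨h, h23, -⟩
  · exact Or.inr (Or.inl h)
  · exact Or.inr (Or.inr ⟨Or.inl h, h.symm ▸ h23⟩)
  · exact Or.inr (Or.inr ⟨Or.inr h, h.symm ▸ h23⟩)

theorem five_le_of_twoPrimes {π : Set ℕ} {n : ℕ} (h2 : TwoPrimes π n)
    (hns : ∃ r : ℕ, r.Prime ∧ r ≤ n ∧ r ∉ π) : 5 ≤ n := by
  obtain ⟨r, s, hr, hs, hrs, hrπ, hsπ, hrn, hsn⟩ := h2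
  obtain ⟨t, ht, htn, htπ⟩ := hns
  by_contra h
  have h1 : ∀ q : ℕ, q.Prime → q ≤ n → q = 2 ∨ q = 3 := fun q hq hqn => by
    have := hq.two_le
    have h4 : q ≠ 4 := fun h => by subst h; exact absurd hq (by decide)
    omega
  rcases h1 r hr hrn with rfl | rfl <;> rcases h1 s hs hsn with rfl | rfl <;>
    rcases h1 t ht htn with rfl | rfl <;> first | exact hrs rfl | exact htπ hrπ | exact htπ hsπ

/-- Hall π-subgroups of `G ∈ {Alt α, Sym α}`. -/
theorem classify {π : Set ℕ} : ∀ (n : ℕ) (α : Type u) [Fintype α] [DecidableEq α],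
    Fintype.card α = n → ∀ H G : Subgroup (Perm α), alternatingGroup α ≤ G →
    Cfsg.IsPiHallOf π H G → TwoPrimes π n → (∃ r : ℕ, r.Prime ∧ r ≤ n ∧ r ∉ π) → Position π H := by
  intro n
  induction n using Nat.strong_induction_on with
  | _ n IH =>
  intro α _ _ hcard H G hA hH h2 hns
  classical
  subst hcard
  have hn5 := five_le_of_twoPrimes h2 hns
  have ih : ∀ (β : Type u) [Fintype β] [DecidableEq β] (H' G' : Subgroup (Perm β)),
      Fintype.card β < Fintype.card α → alternatingGroup β ≤ G' → Cfsg.IsPiHallOf π H' G' →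
      TwoPrimes π (Fintype.card β) → Shape π (Fintype.card β) := by
    intro β _ _ H' G' hlt hA' hH' h2'
    by_cases hall : ∀ r : ℕ, r.Prime → r ≤ Fintype.card β → r ∈ π
    · exact Or.inl hall
    · push Not at hall
      have := shape_of_position (IH _ hlt β rfl H' G' hA' hH' h2' hall)
      rwa [Nat.card_eq_fintype_card] at this
  by_cases htr : MulAction.IsPretransitive H α
  · have hnp := not_preprimitive hA hH h2 hns hn5
    obtain ⟨B, hB, hBs, hBu⟩ : ∃ B : Set α, MulAction.IsBlock H B ∧ ¬ B.Subsingleton ∧ B ≠ Set.univ := by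
      by_contra! hall
      refine hnp { toIsPretransitive := htr, isTrivialBlock_of_isBlock := ?_ }
      intro B hB
      by_cases hs : B.Subsingleton
      · exact Or.inl hs
      · exact Or.inr (hall B hB (Set.not_subsingleton_iff.mp hs))
    exact imprimitive_step hA hH h2 hn5 ih hB hBs hBu
  · obtain ⟨x⟩ : Nonempty α := Fintype.card_pos_iff.mp (by omega)
    let f : α → Bool := fun y => decide (y ∈ MulAction.orbit H x)
    have hfix : ∀ (d : Bool → Bool), H ≤ fixFun (fun y => d (f y)) := fun d g hg y => by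
      show d (f (g y)) = d (f y)
      refine congrArg d (decide_eq_decide.mpr ?_)
      show (⟨g, hg⟩ : H) • y ∈ MulAction.orbit H x ↔ y ∈ MulAction.orbit H x
      rw [← MulAction.orbit_eq_iff, MulAction.orbit_smul, MulAction.orbit_eq_iff]
    have h1 : 1 ≤ Nat.card {y // f y = true} := by
      haveI : Nonempty {y // f y = true} := ⟨⟨x, decide_eq_true (MulAction.mem_orbit_self x)⟩⟩
      exact Nat.card_pos
    have h0 : 1 ≤ Nat.card {y // f y = false} := by
      by_contra h
      refine htr ((MulAction.isPretransitive_iff_orbit_eq_univ (G := H) x).mpr (Set.eq_univ_iff_forall.mpr fun y => ?_))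
      by_contra hy
      haveI : Nonempty {y // f y = false} := ⟨⟨y, decide_eq_false hy⟩⟩
      exact h Nat.card_pos
    rcases le_total (Nat.card {y // f y = true}) (Nat.card {y // f y = false}) with h | h
    · exact intransitive_step hA hH h2 hn5 ih f (hfix id) rfl rfl h1 h
    · refine intransitive_step hA hH h2 hn5 ih (fun y => !f y) (hfix not)
        (j := Nat.card {y // f y = false}) (k := Nat.card {y // f y = true})
        (Nat.card_congr (Equiv.subtypeEquivRight fun y => by simp))
        (Nat.card_congr (Equiv.subtypeEquivRight fun y => by simp)) h0 h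

end CfsgLib.SymHall
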