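/-
The Hall π-subgroups of symmetric and alternating groups that do occur, their conjugacy, and the
degenerate sets of primes.
-/
import Cfsg.Agent.Lib.SymHall.Classify

set_option autoImplicit false
set_option linter.style.haveILetI false

namespace CfsgLib.SymHall

open Equiv

universe u

section Degenerate

variable {X : Type u} [Group X] [Finite X] {π : Set ℕ}

theorem hall_maximal {H : Subgroup X} (hH : Cfsg.IsPiHall π H) :
    Maximal (Cfsg.IsPiSubgroup π) H := by
  refine ⟨hH.1, fun K hK hle => ?_⟩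
  have h := hall_eq_inf (isPiHallOf_top.mpr hH) hK hle
  rw [inf_top_eq] at h
  exact h.ge

theorem bot_isPiSubgroup : Cfsg.IsPiSubgroup π (⊥ : Subgroup X) := fun p hp hd => by
  rw [Subgroup.card_bot] at hd
  exact absurd (Nat.dvd_one.mp hd) hp.ne_one

theorem exists_maximal_ge {K : Subgroup X} (hK : Cfsg.IsPiSubgroup π K) :
    ∃ M, K ≤ M ∧ Maximal (Cfsg.IsPiSubgroup π) M :=
  (Set.toFinite {L : Subgroup X | Cfsg.IsPiSubgroup π L}).exists_le_maximal hK

/-- All primes of the order in π. -/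
theorem all_primes (h : ∀ p : ℕ, p.Prime → p ∣ Nat.card X → p ∈ π) :
    Cfsg.IsPiHall π (⊤ : Subgroup X) ∧ Cfsg.IsDPiGroup π X ∧
      ∀ H : Subgroup X, Cfsg.IsPiHall π H → H = ⊤ := by
  have ht : Cfsg.IsPiHall π (⊤ : Subgroup X) := ⟨fun p hp hd => h p hp (by
    rwa [Subgroup.card_top] at hd), fun p hp _ hd => by
    rw [Subgroup.index_top] at hd
    exact hp.ne_one (Nat.dvd_one.mp hd)⟩
  have hmax : ∀ K : Subgroup X, Maximal (Cfsg.IsPiSubgroup π) K → K = ⊤ := fun K hK =>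
    le_antisymm le_top (hK.2 ht.1 le_top)
  refine ⟨ht, fun H K hH hK => ⟨1, ?_⟩, fun H hH => hmax H (hall_maximal hH)⟩
  rw [hmax H hH, hmax K hK]
  ext x; simp

/-- At most one prime of π divides the order. -/
theorem one_prime (h : ∀ r s : ℕ, r.Prime → s.Prime → r ∈ π → s ∈ π → r ∣ Nat.card X →
    s ∣ Nat.card X → r = s) :
    Cfsg.IsEPiGroup π X ∧ Cfsg.IsDPiGroup π X ∧
      ∀ K : Subgroup X, Cfsg.IsPiSubgroup π K → ∃ H, K ≤ H ∧ Cfsg.IsPiHall π H := by
  by_cases hex : ∃ p, p.Prime ∧ p ∈ π ∧ p ∣ Nat.card X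
  · obtain ⟨p, hp, hpπ, hpd⟩ := hex
    haveI := Fact.mk hp
    have hpg : ∀ K : Subgroup X, Cfsg.IsPiSubgroup π K → IsPGroup p K := fun K hK =>
      IsPGroup.of_card (n := (Nat.card K).primeFactorsList.length)
        (Nat.eq_prime_pow_of_unique_prime_dvd Nat.card_pos.ne' fun {d} hd hdd =>
          h d p hd hp (hK d hd hdd) hpπ (hdd.trans K.card_subgroup_dvd_card) hpd)
    have hsyl : ∀ P : Sylow p X, Cfsg.IsPiHall π (P : Subgroup X) := fun P =>
      ⟨fun q hq hd => by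
        obtain ⟨k, hk⟩ := IsPGroup.iff_card.mp P.2
        rw [hk] at hd
        rwa [(Nat.prime_dvd_prime_iff_eq hq hp).mp (hq.dvd_of_dvd_pow hd)],
      fun q hq hqπ hd => P.not_dvd_index
        (h q p hq hp hqπ hpπ (hd.trans (P : Subgroup X).index_dvd_card) hpd ▸ hd)⟩
    have hover : ∀ K : Subgroup X, Cfsg.IsPiSubgroup π K → ∃ P : Sylow p X, K ≤ P := fun K hK =>
      (hpg K hK).exists_le_sylow
    obtain ⟨P⟩ : Nonempty (Sylow p X) := inferInstance
    refine ⟨⟨P, hsyl P⟩, fun H K hH hK => ?_, fun K hK =>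
      let ⟨Q, hQ⟩ := hover K hK; ⟨Q, hQ, hsyl Q⟩⟩
    obtain ⟨Q, hQ⟩ := hover H hH.1
    obtain ⟨R, hR⟩ := hover K hK.1
    have eH : H = Q := le_antisymm hQ (hH.2 (hsyl Q).1 hQ)
    have eK : K = R := le_antisymm hR (hK.2 (hsyl R).1 hR)
    obtain ⟨g, hg⟩ := MulAction.exists_smul_eq X Q R
    refine ⟨g, ?_⟩
    rw [eH, eK, ← hg, Sylow.coe_subgroup_smul]
    rfl
  · have hone : ∀ K : Subgroup X, Cfsg.IsPiSubgroup π K → K = ⊥ := fun K hK => by
      rw [← Subgroup.card_eq_one]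
      by_contra hne
      obtain ⟨p, hp, hd⟩ := Nat.exists_prime_and_dvd hne
      exact hex ⟨p, hp, hK p hp hd, hd.trans K.card_subgroup_dvd_card⟩
    have hb : Cfsg.IsPiHall π (⊥ : Subgroup X) := ⟨bot_isPiSubgroup, fun p hp hpπ hd => hex
      ⟨p, hp, hpπ, hd.trans (⊥ : Subgroup X).index_dvd_card⟩⟩
    refine ⟨⟨⊥, hb⟩, fun H K hH hK => ⟨1, ?_⟩, fun K hK => ⟨⊥, (hone K hK).le, hb⟩⟩
    rw [hone H hH.1, hone K hK.1, Subgroup.map_bot]

theorem isCPi_of_dPi (hE : Cfsg.IsEPiGroup π X) (hD : Cfsg.IsDPiGroup π X) : Cfsg.IsCPiGroup π X :=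
  ⟨hE, fun H K hH hK => hD H K (hall_maximal hH) (hall_maximal hK)⟩

theorem ePi_of_dPi' (h : Cfsg.IsDPiGroup π X) : Cfsg.IsEPiGroup π X := by
  obtain ⟨H, -, hH⟩ := exists_maximal_ge (bot_isPiSubgroup (X := X) (π := π))
  refine ⟨H, hH.1, fun s hs hsπ hd => ?_⟩
  haveI : Fact s.Prime := ⟨hs⟩
  obtain ⟨P⟩ : Nonempty (Sylow s X) := inferInstance
  have hP : Cfsg.IsPiSubgroup π (P : Subgroup X) := fun t ht htd => by
    obtain ⟨k, hk⟩ := IsPGroup.iff_card.mp P.2
    rw [hk] at htd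
    rwa [(Nat.prime_dvd_prime_iff_eq ht hs).mp (ht.dvd_of_dvd_pow htd)]
  obtain ⟨K, hPK, hK⟩ := exists_maximal_ge hP
  obtain ⟨g, hg⟩ := h H K hH hK
  have hidx : K.index = H.index := by
    rw [hg]; exact Subgroup.index_map_equiv H (MulAut.conj g)
  exact P.not_dvd_index (hd.trans (hidx ▸ Subgroup.index_dvd_of_le hPK))

end Degenerate

section Models

variable {α : Type u} [Fintype α] [DecidableEq α] {π : Set ℕ}

/-- One of the three kinds of Hall subgroups of the symmetric group. -/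
def IsModel (π : Set ℕ) (M : Subgroup (Perm α)) : Prop :=
  (CaseA π (Nat.card α) ∧ 5 ≤ Nat.card α ∧
      ∃ f : α → Bool, Nat.card {x // f x = true} = 1 ∧ M = fixFun f) ∨
    (Nat.card α = 7 ∧ TwoThree π 7 ∧
      ∃ f : α → Bool, Nat.card {x // f x = true} = 3 ∧ M = fixFun f) ∨
    (Nat.card α = 8 ∧ TwoThree π 8 ∧
      ∃ f : α → Bool, Nat.card {x // f x = true} = 4 ∧ M = partFun f)

theorem exists_model_ge {H : Subgroup (Perm α)} (hn : 5 ≤ Nat.card α) (h : Position π H) :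
    ∃ M, IsModel π M ∧ H ≤ M := by
  rcases h with ⟨h1, f, h3, h4⟩ | ⟨h1, h2, f, h3, h4⟩ | ⟨h1, h2, f, h3, h4⟩
  · exact ⟨_, Or.inl ⟨h1, hn, f, h3, rfl⟩, h4⟩
  · exact ⟨_, Or.inr (Or.inl ⟨h1, h2, f, h3, rfl⟩), h4⟩
  · exact ⟨_, Or.inr (Or.inr ⟨h1, h2, f, h3, rfl⟩), h4⟩

theorem card_false {f : α → Bool} {j : ℕ} (hj : Nat.card {x // f x = true} = j) :
    Nat.card {x // f x = false} = Nat.card α - j := by
  rw [card_eq_sum_fibre f, Fintype.sum_bool, hj, Nat.add_sub_cancel_left]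

theorem card_fixFun_bool {f : α → Bool} {j : ℕ} (hj : Nat.card {x // f x = true} = j) :
    Nat.card (fixFun f) = j.factorial * (Nat.card α - j).factorial := by
  rw [card_fixFun, Fintype.prod_bool, hj, card_false hj]

/-- The swap of the two halves. -/
theorem partFun_ne_fixFun {f : α → Bool}
    (h : Nat.card {x // f x = true} = Nat.card {x // f x = false}) (h0 : 0 < Nat.card α) :
    ∃ g ∈ partFun f, g ∉ fixFun f := by
  have e : ∀ i, Nonempty ({x // f x = i} ≃ {x // (!f x) = i}) := fun i => Finite.card_eq.mp (by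
    cases i
    · rw [← h]; exact Nat.card_congr (Equiv.subtypeEquivRight fun x => by simp)
    · rw [h]; exact Nat.card_congr (Equiv.subtypeEquivRight fun x => by simp))
  let g : Perm α := Equiv.ofFiberEquiv fun i => (e i).some
  have hg : ∀ x, (!f (g x)) = f x := fun x =>
    Equiv.ofFiberEquiv_map (f := f) (g := fun x => !f x) _ x
  refine ⟨g, fun x y => ?_, fun hfix => ?_⟩
  · constructor
    · intro hxy; rw [← hg x, ← hg y, hxy]
    · intro hxy
      have h1 := hg x
      rw [hxy, ← hg y] at h1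
      exact Bool.not_inj_iff.mp h1
  · obtain ⟨x⟩ := (Finite.card_pos_iff (α := α)).mp h0
    have h1 := hg x
    rw [hfix x] at h1
    revert h1
    cases f x <;> simp

theorem model_hall {M : Subgroup (Perm α)} (hM : IsModel π M) : Cfsg.IsPiHall π M := by
  have hcardS : Nat.card (Perm α) = (Nat.card α).factorial := Nat.card_perm
  rcases hM with ⟨⟨hp, hπ⟩, hn, f, hf, rfl⟩ | ⟨hn, h23, f, hf, rfl⟩ | ⟨hn, h23, f, hf, rfl⟩
  · have hc := card_fixFun_bool hf
    rw [Nat.factorial_one, one_mul] at hc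
    refine ⟨fun q hq hd => ?_, fun q hq hqπ hd => ?_⟩
    · rw [hc, hq.dvd_factorial] at hd
      exact (hπ q hq (by omega)).mpr (by omega)
    · have h1 := (fixFun f).card_mul_index
      rw [hc, hcardS, ← Nat.mul_factorial_pred hp.ne_zero, mul_comm] at h1
      have h2 := Nat.eq_of_mul_eq_mul_right (Nat.factorial_pos _) h1
      rw [h2] at hd
      have h3 := (Nat.prime_dvd_prime_iff_eq hq hp).mp hd
      exact lt_irrefl q ((hπ q hq h3.le).mp hqπ |>.trans_eq h3.symm)
  · have hc := card_fixFun_bool hf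
    rw [hn] at hc
    have h1 := (fixFun f).card_mul_index
    rw [hc, hcardS, hn] at h1
    norm_num [Nat.factorial] at h1 hc
    have hidx : (fixFun f).index = 35 := by omega
    refine ⟨fun q hq hd => ?_, fun q hq hqπ hd => ?_⟩
    · rw [hc] at hd
      have := Nat.le_of_dvd (by norm_num) hd
      have h4 : q ∈ Nat.primeFactors 144 := Nat.mem_primeFactors.mpr ⟨hq, hd, by norm_num⟩
      have hq7 : q ≤ 3 := by
        rcases (hq.dvd_mul).mp (show q ∣ 16 * 9 from hd) with h | h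
        · exact (Nat.le_of_dvd (by norm_num) (hq.dvd_of_dvd_pow (show q ∣ 2 ^ 4 from h))).trans (by norm_num)
        · exact Nat.le_of_dvd (by norm_num) (hq.dvd_of_dvd_pow (show q ∣ 3 ^ 2 from h))
      refine (h23 q hq (by omega)).mpr ?_
      have := hq.two_le
      omega
    · rw [hidx] at hd
      have hq2 : q = 5 ∨ q = 7 := by
        rcases (hq.dvd_mul).mp (show q ∣ 5 * 7 from hd) with h | h
        · exact Or.inl ((Nat.prime_dvd_prime_iff_eq hq (by norm_num)).mp h)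
        · exact Or.inr ((Nat.prime_dvd_prime_iff_eq hq (by norm_num)).mp h)
      have := (h23 q hq (by omega)).mp hqπ
      omega
  · have hc := card_fixFun_bool hf
    rw [hn] at hc
    have hff : Nat.card {x // f x = false} = 4 := by rw [card_false hf, hn]
    have hsur : Function.Surjective f := fun i => by
      have : 0 < Nat.card {x // f x = i} := by cases i <;> omega
      obtain ⟨⟨x, hx⟩⟩ := (Finite.card_pos_iff).mp this
      exact ⟨x, hx⟩
    have hd2 := card_partFun_dvd f hsur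
    rw [hc, Fintype.card_bool] at hd2
    norm_num [Nat.factorial] at hd2 hc
    have hcW : Nat.card (partFun f) = 1152 := by
      obtain ⟨g, hg, hg'⟩ := partFun_ne_fixFun (hf.trans hff.symm) (by omega)
      obtain ⟨c, hc'⟩ := Subgroup.card_dvd_of_le (fixFun_le_partFun f)
      rw [hc] at hc'
      have hle := Nat.le_of_dvd (by norm_num) hd2
      have hne : c ≠ 1 := fun h => hg' (by
        have : fixFun f = partFun f := Subgroup.eq_of_le_of_card_ge (fixFun_le_partFun f)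
          (by rw [hc, hc', h])
        rw [this]; exact hg)
      have hpos : 0 < Nat.card (partFun f) := Nat.card_pos
      rcases (show c = 0 ∨ c = 2 by omega) with rfl | rfl <;> omega
    have h1 := (partFun f).card_mul_index
    rw [hcW, hcardS, hn] at h1
    norm_num [Nat.factorial] at h1
    have hidx : (partFun f).index = 35 := by omega
    refine ⟨fun q hq hd => ?_, fun q hq hqπ hd => ?_⟩
    · rw [hcW] at hd
      have hq7 : q ≤ 3 := by
        rcases (hq.dvd_mul).mp (show q ∣ 128 * 9 from hd) with h | h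
        · exact (Nat.le_of_dvd (by norm_num) (hq.dvd_of_dvd_pow (show q ∣ 2 ^ 7 from h))).trans (by norm_num)
        · exact Nat.le_of_dvd (by norm_num) (hq.dvd_of_dvd_pow (show q ∣ 3 ^ 2 from h))
      refine (h23 q hq (by omega)).mpr ?_
      have := hq.two_le
      omega
    · rw [hidx] at hd
      have hq2 : q = 5 ∨ q = 7 := by
        rcases (hq.dvd_mul).mp (show q ∣ 5 * 7 from hd) with h | h
        · exact Or.inl ((Nat.prime_dvd_prime_iff_eq hq (by norm_num)).mp h)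
        · exact Or.inr ((Nat.prime_dvd_prime_iff_eq hq (by norm_num)).mp h)
      have := (h23 q hq (by omega)).mp hqπ
      omega

theorem model_inf_hall {M G : Subgroup (Perm α)} (hA : alternatingGroup α ≤ G) (hM : IsModel π M) :
    Cfsg.IsPiHallOf π (M ⊓ G) G :=
  hall_inf_normal (isPiHallOf_top.mpr (model_hall hM)) le_top
    fun g _ n hn => (normal_of_eq hA).conj_mem n hn g

theorem model_conj {M M' : Subgroup (Perm α)} (hM : IsModel π M) (hM' : IsModel π M') :
    ∃ g ∈ alternatingGroup α, M' = M.map (MulAut.conj g).toMonoidHom := by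
  have key : ∀ (f f' : α → Bool) (j : ℕ), Nat.card {x // f x = true} = j →
      Nat.card {x // f' x = true} = j → j + 2 ≤ Nat.card α →
      ∃ g ∈ alternatingGroup α, ∀ x, f' x = f (g⁻¹ x) := by
    intro f f' j hj hj' hn
    obtain ⟨g, hg, hgx⟩ := exists_even_comp_eq f f' (fun i => by
      cases i
      · rw [card_false hj, card_false hj']
      · rw [hj, hj']) (by
      have h1 : 1 < Fintype.card {x // f x = false} := by
        rw [← Nat.card_eq_fintype_card, card_false hj]; omega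
      obtain ⟨⟨a, ha⟩, ⟨b, hb⟩, hne⟩ := (Fintype.one_lt_card_iff_nontrivial.mp h1).exists_pair_ne
      exact ⟨a, b, fun h => hne (Subtype.ext h), ha.trans hb.symm⟩)
    exact ⟨g, hg, fun x => by rw [← hgx (g⁻¹ x), ap_inv]⟩
  rcases hM with ⟨hA, hn, f, hf, rfl⟩ | ⟨hn, h23, f, hf, rfl⟩ | ⟨hn, h23, f, hf, rfl⟩ <;>
    rcases hM' with ⟨hA', hn', f', hf', rfl⟩ | ⟨hn', h23', f', hf', rfl⟩ | ⟨hn', h23', f', hf', rfl⟩
  · obtain ⟨g, hg, he⟩ := key f f' 1 hf hf' (by omega)
    exact ⟨g, hg, by rw [map_conj_fixFun, funext he]⟩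
  · obtain ⟨-, hπ⟩ := hA
    rw [hn'] at hπ
    have := (h23' 5 (by norm_num) (by norm_num)).mp ((hπ 5 (by norm_num) (by norm_num)).mpr (by norm_num))
    omega
  · exact absurd (hn' ▸ hA.1) (by norm_num)
  · obtain ⟨-, hπ⟩ := hA'
    rw [hn] at hπ
    have := (h23 5 (by norm_num) (by norm_num)).mp ((hπ 5 (by norm_num) (by norm_num)).mpr (by norm_num))
    omega
  · obtain ⟨g, hg, he⟩ := key f f' 3 hf hf' (by omega)
    exact ⟨g, hg, by rw [map_conj_fixFun, funext he]⟩
  · omega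
  · exact absurd (hn ▸ hA'.1) (by norm_num)
  · omega
  · obtain ⟨g, hg, he⟩ := key f f' 4 hf hf' (by omega)
    exact ⟨g, hg, by rw [map_conj_partFun, funext he]⟩

theorem exists_fun_card {j : ℕ} (hj : j ≤ Nat.card α) :
    ∃ f : α → Bool, Nat.card {x // f x = true} = j := by
  rw [Nat.card_eq_fintype_card, ← Finset.card_univ] at hj
  obtain ⟨S, -, hS⟩ := Finset.exists_subset_card_eq hj
  exact ⟨fun x => decide (x ∈ S), by simp [hS]⟩

end Models

section Fin

variable {n : ℕ} {π : Set ℕ}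

/-- The two substantial conditions. -/
def Generic (π : Set ℕ) (n : ℕ) : Prop :=
  TwoPrimes π n ∧ ∃ r : ℕ, r.Prime ∧ r ≤ n ∧ r ∉ π

theorem dvd_card_perm_iff {p : ℕ} (hp : p.Prime) : p ∣ Nat.card (Perm (Fin n)) ↔ p ≤ n := by
  rw [Nat.card_perm, Nat.card_fin, hp.dvd_factorial]

theorem le_of_dvd_card_alt {p : ℕ} (hp : p.Prime)
    (h : p ∣ Nat.card (alternatingGroup (Fin n))) : p ≤ n :=
  (dvd_card_perm_iff hp).mp (h.trans (Subgroup.card_subgroup_dvd_card _))

theorem dvd_card_alt {p : ℕ} (hp : p.Prime) (hn : 4 ≤ n) (hpn : p ≤ n) :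
    p ∣ Nat.card (alternatingGroup (Fin n)) :=
  all_of_alternating_le (π := {q | q ∣ Nat.card (alternatingGroup (Fin n))})
    (H := alternatingGroup (Fin n)) (fun _ _ h => h) (by simpa using hn) le_rfl hp (by simpa using hpn)

theorem trichotomy (π : Set ℕ) (n : ℕ) :
    (∀ r : ℕ, r.Prime → r ≤ n → r ∈ π) ∨
      (∀ r s : ℕ, r.Prime → s.Prime → r ∈ π → s ∈ π → r ≤ n → s ≤ n → r = s) ∨ Generic π n := by
  by_cases h1 : ∀ r : ℕ, r.Prime → r ≤ n → r ∈ π
  · exact Or.inl h1
  by_cases h2 : TwoPrimes π n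
  · push Not at h1
    exact Or.inr (Or.inr ⟨h2, h1⟩)
  · refine Or.inr (Or.inl fun r s hr hs hrπ hsπ hrn hsn => ?_)
    by_contra hne
    exact h2 ⟨r, s, hr, hs, hne, hrπ, hsπ, hrn, hsn⟩

/-- A Hall subgroup in the generic case is a model met with the group. -/
theorem hall_is_model (hg : Generic π n) {H G : Subgroup (Perm (Fin n))}
    (hA : alternatingGroup (Fin n) ≤ G) (hH : Cfsg.IsPiHallOf π H G) :
    ∃ M, IsModel π M ∧ H = M ⊓ G := by
  have hpos := classify n (Fin n) (Fintype.card_fin n) H G hA hH hg.1 hg.2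
  obtain ⟨M, hM, hle⟩ := exists_model_ge (by rw [Nat.card_fin]; exact five_le_of_twoPrimes hg.1 hg.2) hpos
  exact ⟨M, hM, hall_eq_inf hH (model_hall hM).1 hle⟩

theorem isPiHallOf_map_alt {M : Subgroup (alternatingGroup (Fin n))} (hM : Cfsg.IsPiHall π M) :
    Cfsg.IsPiHallOf π (M.map (alternatingGroup (Fin n)).subtype) (alternatingGroup (Fin n)) := by
  refine ⟨Subgroup.map_subtype_le _, fun p hp hd => hM.1 p hp (by
    rwa [Subgroup.card_map_of_injective (Subgroup.subtype_injective _)] at hd), fun p hp hπ hd =>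
    hM.2 p hp hπ ?_⟩
  rwa [Subgroup.relIndex, Subgroup.subgroupOf,
    Subgroup.comap_map_eq_self_of_injective (Subgroup.subtype_injective _)] at hd

theorem alt_model (hg : Generic π n) {M : Subgroup (alternatingGroup (Fin n))}
    (hM : Cfsg.IsPiHall π M) :
    ∃ M₀, IsModel π M₀ ∧ M = M₀.subgroupOf (alternatingGroup (Fin n)) := by
  obtain ⟨M₀, hM₀, he⟩ := hall_is_model hg le_rfl (isPiHallOf_map_alt hM)
  refine ⟨M₀, hM₀, ?_⟩
  rw [← Subgroup.inf_subgroupOf_right, ← he, Subgroup.subgroupOf,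
    Subgroup.comap_map_eq_self_of_injective (Subgroup.subtype_injective _)]

theorem model_exists_iff (hg : Generic π n) :
    (∃ M : Subgroup (Perm (Fin n)), IsModel π M) ↔
      (CaseA π n ∨ ((n = 7 ∨ n = 8) ∧ TwoThree π n)) := by
  constructor
  · rintro ⟨M, ⟨h, -⟩ | ⟨h, h23, -⟩ | ⟨h, h23, -⟩⟩
    · exact Or.inl (by rwa [Nat.card_fin] at h)
    · rw [Nat.card_fin] at h
      exact Or.inr ⟨Or.inl h, h.symm ▸ h23⟩
    · rw [Nat.card_fin] at h
      exact Or.inr ⟨Or.inr h, h.symm ▸ h23⟩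
  · have hn5 := five_le_of_twoPrimes hg.1 hg.2
    rintro (h | ⟨rfl | rfl, h⟩)
    · obtain ⟨f, hf⟩ := exists_fun_card (α := Fin n) (j := 1) (by rw [Nat.card_fin]; omega)
      exact ⟨_, Or.inl ⟨by rwa [Nat.card_fin], by rwa [Nat.card_fin], f, hf, rfl⟩⟩
    · obtain ⟨f, hf⟩ := exists_fun_card (α := Fin 7) (j := 3) (by rw [Nat.card_fin]; omega)
      exact ⟨_, Or.inr (Or.inl ⟨Nat.card_fin 7, h, f, hf, rfl⟩)⟩
    · obtain ⟨f, hf⟩ := exists_fun_card (α := Fin 8) (j := 4) (by rw [Nat.card_fin]; omega)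
      exact ⟨_, Or.inr (Or.inr ⟨Nat.card_fin 8, h, f, hf, rfl⟩)⟩

end Fin

end CfsgLib.SymHall
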